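import Groth.Agent.HomCohLib.Coh
import Groth.Agent.MiscFlat6.RelResolution
import Groth.Agent.PerfLib.Coherent
import Groth.Agent.PerfLib.Strict
import Groth.Agent.FlatLib.SectionsFP
import Groth.Agent.S9805
import Groth.Agent.ChowLib.ChowAll

/-!
# Maps out of a module defined over an open, as sections of the sheaf of homomorphisms
-/

set_option autoImplicit false
set_option maxRecDepth 8000
set_option backward.isDefEq.respectTransparency false
set_option backward.isDefEq.respectTransparency.types false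

noncomputable section

universe u

open CategoryTheory CategoryTheory.Limits AlgebraicGeometry TopologicalSpace Opposite
open ProjFormLib (ger res ger_res ger_smul ger_add ger_map exists_ger section_ext)
open CohCmpLib (homMod hVal happ ger_happ hVal_res homMod_ext stk ger_zero homSec evMod curryMod)

namespace BoxSurjLib

variable {Z : Scheme.{u}} (W : Z.Opens)

/-- `j_* j^* F` for the inclusion `j` of an open. -/
abbrev cutMod (F : Z.Modules) : Z.Modules :=
  (Scheme.Modules.pushforward W.ι).obj (F.restrict W.ι)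

/-- The unit `F ⟶ j_* j^* F`. -/
def cutη (F : Z.Modules) : F ⟶ cutMod W F := (Scheme.Modules.restrictAdjunction W.ι).unit.app F

/-- The functoriality of `j_* j^*`. -/
def cutMap {F F' : Z.Modules} (q : F ⟶ F') : cutMod W F ⟶ cutMod W F' :=
  (Scheme.Modules.pushforward W.ι).map ((Scheme.Modules.restrictFunctor W.ι).map q)

theorem cutη_app (F : Z.Modules) (V : Z.Opens) (t : Γ(F, V)) :
    (cutη W F).app V t = res F (W.ι.image_preimage_le V) t := rfl

theorem cutMap_app {F F' : Z.Modules} (q : F ⟶ F') (V : Z.Opens) (t : Γ(cutMod W F, V)) :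
    (cutMap W q).app V t = q.app (W.ι ''ᵁ (W.ι ⁻¹ᵁ V)) (show Γ(F, W.ι ''ᵁ (W.ι ⁻¹ᵁ V)) from t) := rfl

theorem le_image (V : Z.Opens) : W ⊓ V ≤ W.ι ''ᵁ (W.ι ⁻¹ᵁ V) := fun y hy => ⟨⟨y, hy.1⟩, hy.2, rfl⟩

theorem image_le_left (V : Z.Opens) : W.ι ''ᵁ (W.ι ⁻¹ᵁ V) ≤ W := by
  rintro y ⟨z, -, rfl⟩
  exact z.2

theorem le_image_of_le {V : Z.Opens} (hV : V ≤ W) : V ≤ W.ι ''ᵁ (W.ι ⁻¹ᵁ V) :=
  (le_inf hV le_rfl).trans (le_image W V)

/-- Sections of `j_* j^* F`. -/
abbrev sec {F : Z.Modules} {V : Z.Opens} (t : Γ(cutMod W F, V)) : Γ(F, W.ι ''ᵁ (W.ι ⁻¹ᵁ V)) := t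

theorem sec_zero (F : Z.Modules) (V : Z.Opens) : sec W (0 : Γ(cutMod W F, V)) = 0 := rfl

theorem sec_res {F : Z.Modules} {V O : Z.Opens} (h : O ≤ V) (t : Γ(cutMod W F, V)) :
    sec W (res (cutMod W F) h t) = res F (W.ι.image_mono (W.ι.preimage_mono h)) (sec W t) := rfl

theorem ger_cutη {F : Z.Modules} {V : Z.Opens} (y : Z) (hy : y ∈ W) (hyV : y ∈ V)
    (t : Γ(cutMod W F, V)) :
    ger (cutMod W F) y hyV t =
      ((DerSch.stalkFunctor Z y).map (cutη W F)).hom (ger F y (le_image W V ⟨hy, hyV⟩) (sec W t)) := by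
  refine Eq.trans ?_ (ger_map (cutη W F) y (le_image W V ⟨hy, hyV⟩) (sec W t)).symm
  refine (ger_res (cutMod W F) (W.ι.image_preimage_le V) y (le_image W V ⟨hy, hyV⟩) t).symm.trans ?_
  refine congrArg (ger (cutMod W F) y _) ?_
  exact sec_res W _ t

theorem bijective_cut (F : Z.Modules) (y : Z) (hy : y ∈ W) :
    Function.Bijective ((DerSch.stalkFunctor Z y).map (cutη W F)).hom := by
  constructor
  · rw [injective_iff_map_eq_zero]
    intro a ha
    obtain ⟨V, hV, t, rfl⟩ := exists_ger _ y a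
    rw [ger_map] at ha
    obtain ⟨O, hO, i₁, i₂, e⟩ := (cutMod W F).presheaf.germ_eq y hV hV ((cutη W F).app V t) 0
      (ha.trans (ger_zero (cutMod W F) y hV).symm)
    rw [map_zero] at e
    have e' : sec W (res (cutMod W F) i₁.le ((cutη W F).app V t)) = 0 := by
      rw [show res (cutMod W F) i₁.le ((cutη W F).app V t) = 0 from e]
    rw [sec_res, show sec W ((cutη W F).app V t) = res F (W.ι.image_preimage_le V) t from cutη_app W F V t] at e'
    replace e' : res F ((W.ι.image_preimage_le O).trans i₁.le) t = 0 :=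
      (AmpleLib.res_res (M := F) _ _ t).symm.trans e'
    have h1 : ger F y (le_image W O ⟨hy, hO⟩) (res F ((W.ι.image_preimage_le O).trans i₁.le) t) = 0 :=
      (congrArg (ger F y _) e').trans (ger_zero _ _ _)
    rw [ger_res] at h1
    exact h1
  · intro a
    obtain ⟨V, hV, t, rfl⟩ := exists_ger _ y a
    exact ⟨_, (ger_cutη W y hy hV t).symm⟩

/-- The inverse of the unit on a stalk over the open. -/
def cutStalk (F : Z.Modules) (y : Z) (hy : y ∈ W) :
    stk (cutMod W F) y →ₗ[Z.presheaf.stalk y] stk F y :=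
  (LinearEquiv.ofBijective ((DerSch.stalkFunctor Z y).map (cutη W F)).hom (bijective_cut W F y hy)).symm.toLinearMap

theorem cutStalk_ger (F : Z.Modules) {V : Z.Opens} (y : Z) (hy : y ∈ W) (hyV : y ∈ V)
    (t : Γ(cutMod W F, V)) :
    cutStalk W F y hy (ger (cutMod W F) y hyV t) =
      ger F y (le_image W V ⟨hy, hyV⟩) (show Γ(F, W.ι ''ᵁ (W.ι ⁻¹ᵁ V)) from t) := by
  apply (bijective_cut W F y hy).1
  refine ((LinearEquiv.ofBijective _ (bijective_cut W F y hy)).apply_symm_apply _).trans ?_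
  exact ger_cutη W y hy hyV t

variable {A F : Z.Modules}

/-- The section over `W` of the sheaf of homomorphisms given by a map `A ⟶ j_* j^* F`. -/
def cutSec (γ : A ⟶ cutMod W F) : Γ(homMod A F, W) :=
  (show homSec A F W from
    ⟨fun y => (cutStalk W F y.1 y.2).comp ((DerSch.stalkFunctor Z y.1).map γ).hom, fun V h m =>
      ⟨res F (le_image_of_le W h) (show Γ(F, W.ι ''ᵁ (W.ι ⁻¹ᵁ V)) from γ.app V m), fun y hy => by
        rw [LinearMap.comp_apply, ger_map, cutStalk_ger, ger_res]⟩⟩)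

theorem hVal_cutSec (γ : A ⟶ cutMod W F) (y : Z) (hy : y ∈ W) :
    hVal (cutSec W γ) y hy = (cutStalk W F y hy).comp ((DerSch.stalkFunctor Z y).map γ).hom := rfl

theorem cutSec_kill {F' : Z.Modules} (γ : A ⟶ cutMod W F) (q : F ⟶ F')
    (h : ∀ (V : Z.Opens) (hV : V ≤ W) (a : Γ(A, V)),
      q.app V (happ (res (homMod A F) hV (cutSec W γ)) a) = 0) :
    γ ≫ cutMap W q = 0 := by
  refine Scheme.Modules.hom_ext _ _ fun V => ?_
  ext a
  change (cutMap W q).app V (γ.app V a) = (0 : A ⟶ cutMod W F').app V a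
  rw [cutMap_app]
  have e : happ (res (homMod A F) (image_le_left W V) (cutSec W γ)) (res A (W.ι.image_preimage_le V) a) =
      (show Γ(F, W.ι ''ᵁ (W.ι ⁻¹ᵁ V)) from γ.app V a) := by
    refine section_ext _ _ fun y hy => ?_
    rw [ger_happ, hVal_res (image_le_left W V) (cutSec W γ) y hy, hVal_cutSec, LinearMap.comp_apply, ger_res,
      ger_map, cutStalk_ger]
  rw [← e]
  exact h _ (image_le_left W V) _

/-- The sheaf of homomorphisms out of a finite locally free module is quasi-coherent. -/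
theorem isQCoh_homMod [Coh.IsQCoh F] (hA : FlatMod.IsFinLocFree A) : Coh.IsQCoh (homMod A F) := by
  haveI := (Groth.Agent.PerfLib.isCoh_of_isFinLocFree hA).1
  have hFP : CohB1.IsFP A := (MiscFlat6.isFlat_and_isFP_iff.mpr hA).2
  choose U hU _ hxU hfp using fun x : Z =>
    FlatLib.exists_finitePresentation_nhd hFP (U := ⊤) (x := x) trivial
  refine QCohLib.isQCoh_of_localizingAt _ U hU (eq_top_iff.mpr fun x _ => Opens.mem_iSup.mpr ⟨x, hxU x⟩)
    fun x f => ?_
  haveI := hfp x
  exact HomCohLib.localizingAt_homMod (hU x) f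

theorem happ_eq_zero_of_curry {F' : Z.Modules} (q : F ⟶ F') {V : Z.Opens} (s : Γ(homMod A F, V))
    (hs : (curryMod (evMod A F ≫ q)).app V s = 0) (a : Γ(A, V)) : q.app V (happ s a) = 0 := by
  have h1 := congrArg (fun φ : KFlatLib.tens A (homMod A F) ⟶ F' => φ.app V (KFlatLib.shTm a s))
    (CohCmpLib.curryMod_comp (evMod A F ≫ q))
  change (evMod A F').app V ((((DCoh.tensorBi (X := Z)).obj A).map (curryMod (evMod A F ≫ q))).app V
    (KFlatLib.shTm a s)) = q.app V ((evMod A F).app V (KFlatLib.shTm a s)) at h1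
  rw [KFlatLib.tensorBi_map₂_shTm, hs, CohCmpLib.evMod_app, CohCmpLib.evMod_app] at h1
  rw [← h1]
  refine section_ext _ _ fun y hy => ?_
  rw [ger_happ, ger_zero]
  rfl

theorem comp_curry_eq_zero {G F' : Z.Modules} (δ : G ⟶ homMod A F) (q : F ⟶ F')
    (h : (((DCoh.tensorBi (X := Z)).obj A).map δ ≫ evMod A F) ≫ q = 0) :
    δ ≫ curryMod (evMod A F ≫ q) = 0 := by
  haveI : ((DCoh.tensorBi (X := Z)).obj A).IsLeftAdjoint := CohCmpLib.hasSheafHom A
  refine CohCmpLib.hom_homMod_ext ?_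
  rw [Functor.map_comp, Category.assoc, CohCmpLib.curryMod_comp, Functor.map_zero, zero_comp, ← Category.assoc]
  exact h

end BoxSurjLib
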