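import Groth.Agent.BoxSurjLib.StrongGen
import Groth.Agent.VBResLib.KFunct
import Groth.Agent.PerfLib.Coherent
import Groth.Agent.KoszOrthLib.Compact

/-!
# Homological functors on perfect objects are bounded on coherent modules
-/

set_option autoImplicit false
set_option linter.style.haveILetI false
set_option maxHeartbeats 2000000
set_option backward.isDefEq.respectTransparency false
set_option backward.isDefEq.respectTransparency.types false

universe u v' u'

open CategoryTheory CategoryTheory.Limits CategoryTheory.Pretriangulated AlgebraicGeometry ObjectProperty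
open scoped ZeroObject
open Groth.Agent Groth.Agent.DerLib Groth.Agent.PerfDualLib Groth.Agent.ProjFormLib

attribute [local instance] HasDerivedCategory.standard

namespace BoxSurjLib

variable {X : Scheme.{u}}

/-- The perfect objects. -/
abbrev perfO (X : Scheme.{u}) : ObjectProperty (DCoh.D X) := fun K => DCoh.IsPerfect K

section Van

variable [(perfO X).IsTriangulated] {A : Type u'} [Category.{v'} A] [Abelian A]
  (H : (perfO X).FullSubcategory ⥤ A) [H.IsHomological]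

/-- `H` vanishes on the shifts of `K` outside `[-N, N]`. -/
def Van (N : ℕ) (K : DCoh.D X) : Prop :=
  ∃ hK : DCoh.IsPerfect K, ∀ i : ℤ, N < i.natAbs →
    IsZero (H.obj ((shiftFunctor (perfO X).FullSubcategory i).obj ⟨K, hK⟩))

variable {H}

theorem Van.mono {N M : ℕ} (h : N ≤ M) {K : DCoh.D X} (hK : Van H N K) : Van H M K :=
  hK.imp fun _ hK i hi => hK i (by omega)

theorem Van.of_retract {N : ℕ} {K L : DCoh.D X} (r : Retract K L) (hp : DCoh.IsPerfect K) (hL : Van H N L) :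
    Van H N K := by
  obtain ⟨hL', hL⟩ := hL
  refine ⟨hp, fun i hi => ?_⟩
  let r' : Retract (⟨K, hp⟩ : (perfO X).FullSubcategory) ⟨L, hL'⟩ :=
    { i := ObjectProperty.homMk r.i
      r := ObjectProperty.homMk r.r
      retract := InducedCategory.hom_ext r.retract }
  exact IsZero.of_mono ((r'.map (shiftFunctor (perfO X).FullSubcategory i ⋙ H)).i) (hL i hi)

theorem Van.of_iso {N : ℕ} {K L : DCoh.D X} (e : K ≅ L) (hL : Van H N L) : Van H N K :=
  hL.of_retract ⟨e.hom, e.inv, e.hom_inv_id⟩ (PerfLib.isPerfect_of_iso e.symm hL.1)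

theorem Van.ext {N : ℕ} {T : Triangle (DCoh.D X)} (hT : T ∈ distTriang (DCoh.D X)) (h₁ : Van H N T.obj₁)
    (h₃ : Van H N T.obj₃) : Van H N T.obj₂ := by
  obtain ⟨p₁, h₁⟩ := h₁
  obtain ⟨p₃, h₃⟩ := h₃
  have p₂ : DCoh.IsPerfect T.obj₂ := PerfLib.isPerfect_obj₂ T hT p₁ p₃
  refine ⟨p₂, fun i hi => ?_⟩
  let T' : Triangle (perfO X).FullSubcategory :=
    Triangle.mk (ObjectProperty.homMk T.mor₁ : (⟨T.obj₁, p₁⟩ : (perfO X).FullSubcategory) ⟶ ⟨T.obj₂, p₂⟩)
      (ObjectProperty.homMk T.mor₂ : _ ⟶ (⟨T.obj₃, p₃⟩ : (perfO X).FullSubcategory))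
      (ObjectProperty.homMk (T.mor₃ ≫ ((perfO X).ι.commShiftIso (1 : ℤ)).inv.app ⟨T.obj₁, p₁⟩))
  have hT' : T' ∈ distTriang (perfO X).FullSubcategory := by
    show (perfO X).ι.mapTriangle.obj T' ∈ distTriang (DCoh.D X)
    refine isomorphic_distinguished _ hT _ (Triangle.isoMk _ _ (Iso.refl _) (Iso.refl _) (Iso.refl _)
      ((Category.comp_id _).trans (Category.id_comp _).symm) ((Category.comp_id _).trans (Category.id_comp _).symm) ?_)
    refine Eq.trans ?_ (Category.id_comp _).symm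
    refine Eq.trans (congrArg (_ ≫ ·) ((shiftFunctor (DCoh.D X) (1 : ℤ)).map_id _)) ?_
    refine (Category.comp_id _).trans ?_
    show (T.mor₃ ≫ ((perfO X).ι.commShiftIso (1 : ℤ)).inv.app ⟨T.obj₁, p₁⟩) ≫
      ((perfO X).ι.commShiftIso (1 : ℤ)).hom.app ⟨T.obj₁, p₁⟩ = T.mor₃
    rw [Category.assoc, Iso.inv_hom_id_app]
    exact Category.comp_id _
  have hex := H.map_distinguished_exact _ (Triangle.shift_distinguished _ hT' i)
  exact hex.isZero_of_both_zeros ((h₁ i hi).eq_of_src _ _) ((h₃ i hi).eq_of_tgt _ _)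

theorem Van.shift {N : ℕ} {K : DCoh.D X} (a : ℤ) (hK : Van H N K) :
    Van H (N + a.natAbs) (K⟦a⟧) := by
  obtain ⟨p, hK⟩ := hK
  have p' : DCoh.IsPerfect (K⟦a⟧) := (perfO X).le_shift a K p
  refine ⟨p', fun i hi => ?_⟩
  let e : (⟨K⟦a⟧, p'⟩ : (perfO X).FullSubcategory) ≅ (shiftFunctor (perfO X).FullSubcategory a).obj ⟨K, p⟩ :=
    (perfO X).fullyFaithfulι.preimageIso (((perfO X).ι.commShiftIso a).app ⟨K, p⟩).symm
  exact (hK (a + i) (by omega)).of_iso (H.mapIso ((shiftFunctor (perfO X).FullSubcategory i).mapIso e ≪≫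
    ((shiftFunctorAdd (perfO X).FullSubcategory a i).app ⟨K, p⟩).symm))

theorem Van.biprod {N : ℕ} {K L : DCoh.D X} (hK : Van H N K) (hL : Van H N L) : Van H N (K ⊞ L) :=
  Van.ext (binaryBiproductTriangle_distinguished K L) hK hL

theorem van_zero {K : DCoh.D X} (hK : IsZero K) (hp : DCoh.IsPerfect K) : Van H 0 K :=
  ⟨hp, fun i _ => (shiftFunctor (perfO X).FullSubcategory i ⋙ H).map_isZero
    ((IsZero.iff_id_eq_zero _).2 (InducedCategory.hom_ext (hK.eq_of_src _ _)))⟩

end Van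

/-- The transformation with kernel the inverse image of a complex. -/
noncomputable abbrev kerFun {S : Scheme.{u}} (a : X ⟶ S) (Kc : Cx X)
    [DCoh.HasLTensorCx ((KFlatLib.pullCx (pullback.fst a a)).obj Kc)] [DCoh.HasRpush (pullback.snd a a)] :
    DCoh.D (pullback a a) ⥤ DCoh.D X :=
  DCoh.LTensorCx ((KFlatLib.pullCx (pullback.fst a a)).obj Kc) ⋙ DCoh.Rpush (pullback.snd a a)

theorem nonempty_kerFun_diag {S : Scheme.{u}} (a : X ⟶ S) [IsSeparated a] (Kc : Cx X) (hKc : DCoh.IsKFlat Kc)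
    [DCoh.HasLTensorCx ((KFlatLib.pullCx (pullback.fst a a)).obj Kc)] [DCoh.HasRpush (pullback.snd a a)] :
    Nonempty ((kerFun a Kc).obj (FMK.diagO a) ≅ DerivedCategory.Q.obj Kc) := by
  let p := pullback.fst a a
  let q := pullback.snd a a
  let L := (KFlatLib.pullCx p).obj Kc
  have hL : DCoh.IsKFlat L := KFlatLib.isKFlat_pull p hKc
  let Dc : Cx (pullback a a) := sgl ((Coh.push (pullback.diagonal a)).obj (Coh.structureModule X))
  let eD : DerivedCategory.Q.obj Dc ≅ FMK.diagO a :=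
    ((DerivedCategory.singleFunctorIsoCompQ _ 0).app _).symm
  haveI := KFlatLib.hasLpull p
  haveI := KFlatLib.hasLTensorCx Dc
  obtain ⟨φ⟩ := nonempty_phi_diag a Dc ⟨eD⟩
  haveI : IsIso ((TensorAssocLib.cnt Dc).app L) := TensorAssocLib.isIso_cnt_of_kFlat Dc L hL
  let a₁ := (DCoh.LTensorCx L).mapIso eD.symm
  let a₂ := (TensorAssocLib.flatCnt L hL).app Dc
  let a₃ := DerivedCategory.Q.mapIso (bX Dc L)
  let a₄ := asIso ((TensorAssocLib.cnt Dc).app L)
  let a₅ := (DCoh.LTensorCx Dc).mapIso (KFlatLib.lpullObjIso p Kc hKc).symm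
  exact ⟨(DCoh.Rpush q).mapIso (a₁ ≪≫ a₂ ≪≫ a₃ ≪≫ a₄.symm ≪≫ a₅) ≪≫ φ.app (DerivedCategory.Q.obj Kc)⟩

theorem kerFun_weakExact {S : Scheme.{u}} (a : X ⟶ S) (Kc : Cx X) (hKc : DCoh.IsKFlat Kc)
    [DCoh.HasLTensorCx ((KFlatLib.pullCx (pullback.fst a a)).obj Kc)] [DCoh.HasRpush (pullback.snd a a)] :
    (kerFun a Kc).Additive ∧ WeakExact (kerFun a Kc) := by
  obtain ⟨_, _⟩ := QRlimLib.exists_isTriangulated_rpush (pullback.snd a a)
  haveI : (DCoh.LTensorCx ((KFlatLib.pullCx (pullback.fst a a)).obj Kc)).IsLeftAdjoint :=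
    BidualSchLib.hasRSheafHom _
  haveI : PreservesBinaryBiproducts (DCoh.LTensorCx ((KFlatLib.pullCx (pullback.fst a a)).obj Kc)) :=
    preservesBinaryBiproducts_of_preservesBinaryCoproducts _
  haveI : (DCoh.LTensorCx ((KFlatLib.pullCx (pullback.fst a a)).obj Kc)).Additive :=
    Functor.additive_of_preservesBinaryBiproducts _
  exact ⟨inferInstance, (weakExact_lTensorCx _ (KFlatLib.isKFlat_pull _ hKc)).comp _
    (weakExact_of_triangulated (DCoh.Rpush (pullback.snd a a)))⟩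

section Main

variable [(perfO X).IsTriangulated] {A : Type u'} [Category.{v'} A] [Abelian A]
  (H : (perfO X).FullSubcategory ⥤ A) [H.IsHomological]

theorem exists_van (K : (perfO X).FullSubcategory)
    (h : Set.Finite {i : ℤ | ¬ IsZero (H.obj ((shiftFunctor (perfO X).FullSubcategory i).obj K))}) :
    ∃ N, Van H N K.obj := by
  obtain ⟨b, hb⟩ := (h.image Int.natAbs).bddAbove
  exact ⟨b, K.property, fun i hi => not_not.1 fun h' => absurd (hb ⟨i, h', rfl⟩) (not_le.2 hi)⟩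

variable {k : Type u} [Field k] (a : X ⟶ Spec (CommRingCat.of k)) [IsProper a] [Smooth a]

omit [IsProper a] [Smooth a] in
/-- The images of bounded complexes on the point. -/
theorem exists_van_point (G : X.Modules) (hG : FlatMod.IsFinLocFree G) [DCoh.HasLpull a]
    [DCoh.HasLTensorCx (sgl G)] {N₀ : ℕ} (hGv : Van H N₀ (DCoh.inD X G)) (M : ℕ) :
    ∀ W : DCoh.D (Spec (CommRingCat.of k)), DCoh.IsCohD W → W.IsGE 0 → W.IsLE (M : ℤ) →
      Van H (N₀ + M) ((DCoh.LTensorCx (sgl G)).obj ((DCoh.Lpull a).obj W)) := by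
  haveI := DCohRestrLib.hasRpush a
  obtain ⟨_, _⟩ := QRlimLib.exists_isTriangulated_rpush a
  let adjf := KFlatLib.lpullRpushAdj a
  letI := adjf.leftAdjointCommShift ℤ
  haveI := adjf.commShift_of_rightAdjoint ℤ
  haveI : (DCoh.Lpull a).IsTriangulated := adjf.isTriangulated_leftAdjoint
  haveI : (DCoh.LTensorCx (sgl G)).IsLeftAdjoint := BidualSchLib.hasRSheafHom (sgl G)
  haveI : PreservesBinaryBiproducts (DCoh.LTensorCx (sgl G)) := preservesBinaryBiproducts_of_preservesBinaryCoproducts _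
  haveI : (DCoh.LTensorCx (sgl G)).Additive := Functor.additive_of_preservesBinaryBiproducts _
  let Φ := DCoh.Lpull a ⋙ DCoh.LTensorCx (sgl G)
  have hΦ : WeakExact Φ :=
    (weakExact_of_triangulated (DCoh.Lpull a)).comp _ (weakExact_lTensorCx (sgl G) (isKFlat_sgl hG))
  have hsh := hΦ.shift fun W hW => Φ.map_isZero hW
  obtain ⟨eO⟩ := nonempty_unit_image a G hG
  have hzero : ∀ W : DCoh.D (Spec (CommRingCat.of k)), IsZero W → Van H 0 (Φ.obj W) := fun W hW => by
    refine van_zero (Φ.map_isZero hW) ?_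
    exact PerfLib.isPerfect_of_isZero (Φ.map_isZero hW)
  let S0 := DerivedCategory.singleFunctor (Spec (CommRingCat.of k)).Modules 0
  have hfree : ∀ n, Van H N₀ (Φ.obj (S0.obj (FlatMod.freeMod (Spec (CommRingCat.of k)) n))) := by
    intro n
    induction n with
    | zero =>
      refine (hzero _ (S0.map_isZero ?_)).mono (Nat.zero_le _)
      exact (IsZero.iff_id_eq_zero _).mpr (Sigma.hom_ext _ _ fun j => j.elim0)
    | succ n ih =>
      let P := Spec (CommRingCat.of k)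
      let e : FlatMod.freeMod P (n + 1) ≅ Coh.structureModule P ⊞ FlatMod.freeMod P n :=
        { hom := Sigma.desc (Fin.cases biprod.inl fun j => Sigma.ι (fun _ : Fin n => Coh.structureModule P) j ≫ biprod.inr)
          inv := biprod.desc (Sigma.ι (fun _ : Fin (n + 1) => Coh.structureModule P) 0)
            (Sigma.desc fun j => Sigma.ι (fun _ : Fin (n + 1) => Coh.structureModule P) j.succ)
          hom_inv_id := Sigma.hom_ext _ _ fun j => by
            induction j using Fin.cases <;> simp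
          inv_hom_id := by
            apply biprod.hom_ext'
            · simp
            · exact Sigma.hom_ext _ _ fun j => by simp }
      haveI : PreservesBinaryBiproduct (Coh.structureModule P) (FlatMod.freeMod P n) (S0 ⋙ Φ) :=
        preservesBinaryBiproduct_of_preservesBiproduct _ _ _
      exact Van.of_iso ((S0 ⋙ Φ).mapIso e ≪≫ (S0 ⋙ Φ).mapBiprod _ _) (Van.biprod (hGv.of_iso eO) ih)
  have hsingle : ∀ (q : ℕ) (Mo : (Spec (CommRingCat.of k)).Modules), Coh.IsCoh Mo →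
      Van H (N₀ + q) (Φ.obj ((DerivedCategory.singleFunctor _ (q : ℤ)).obj Mo)) := fun q Mo hMo => by
    obtain ⟨G', i, r, ⟨n, ⟨eG⟩⟩, hir⟩ := PerfHomLib.exists_retract_spec (isFinLocFree_point k hMo)
    obtain ⟨_, _⟩ := hfree n
    have h0 : Van H N₀ (Φ.obj (S0.obj Mo)) := by
      refine Van.of_retract ((({ i := i ≫ eG.hom, r := eG.inv ≫ r, retract := by simp [hir] } :
        Retract Mo (FlatMod.freeMod _ n)).map S0).map Φ) ?_ (hfree n)
      exact KoszOrthLib.isPerfect_of_retract ((({ i := i ≫ eG.hom, r := eG.inv ≫ r, retract := by simp [hir] } :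
        Retract Mo (FlatMod.freeMod _ n)).map S0).map Φ) (hfree n).1
    obtain ⟨e'⟩ := hsh (S0.obj Mo) (-(q : ℤ))
    exact (Van.of_iso (Φ.mapIso (((DerivedCategory.singleFunctors _).shiftIso (-(q : ℤ)) (q : ℤ) 0 (by omega)).app Mo).symm ≪≫ e')
      (h0.shift (-(q : ℤ)))).mono (by simp)
  intro W hW _ _
  haveI : W.IsLE (0 + (M : ℤ)) := by rw [zero_add]; infer_instance
  refine Dual3Lib.prop_of_bounded (fun W => Van H (N₀ + M) (Φ.obj W)) (fun e h => h.of_iso (Φ.mapIso e.symm))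
    (fun T hT h₁ h₃ => ?_) (fun h => (hzero _ h).mono (Nat.zero_le _)) 0 M W (fun q hq hq' => ?_)
  · obtain ⟨T', hT', ⟨e₁⟩, ⟨e₂⟩, ⟨e₃⟩⟩ := hΦ T hT
    exact (Van.ext hT' (h₁.of_iso e₁) (h₃.of_iso e₃)).of_iso e₂.symm
  · obtain ⟨q, rfl⟩ := Int.eq_ofNat_of_zero_le hq
    exact (hsingle q _ (hW q)).mono (by omega)

/-- **Boundedness on coherent modules.** -/
theorem exists_bound_on_coh (hreg : ∀ x : X, IsRegularLocalRing (X.presheaf.stalk x))
    (hfin : ∀ K : (perfO X).FullSubcategory,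
      Set.Finite {i : ℤ | ¬ IsZero (H.obj ((shiftFunctor (perfO X).FullSubcategory i).obj K))})
    (E G : X.Modules) (hE : FlatMod.IsFinLocFree E) (hG : FlatMod.IsFinLocFree G)
    (h : ObjectProperty.triangEnvelope
      (ObjectProperty.ofObj (fun _ : PUnit.{u + 1} => DCoh.inD _ (box (pullback.fst a a) (pullback.snd a a) E G)))
      (FMK.diagO a)) :
    ∃ N : ℕ, ∀ F : X.Modules, Coh.IsCoh F → Van H N (DCoh.inD X F) := by
  haveI : IsLocallyNoetherian X := LocallyOfFiniteType.isLocallyNoetherian a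
  let p := pullback.fst a a
  let q := pullback.snd a a
  haveI := KFlatLib.hasLpull a
  haveI := DCohRestrLib.hasRpush a
  haveI := DCohRestrLib.hasRpush q
  haveI := KFlatLib.hasLTensorCx (sgl G)
  haveI := KFlatLib.hasLTensorCx (sgl E)
  haveI := KFlatLib.hasLTensorCx ((KFlatLib.pullCx q).obj (sgl G))
  haveI : ∀ C : Cx (pullback a a), DCoh.HasLTensorCx C := fun C => KFlatLib.hasLTensorCx C
  have hperf : ∀ {F : X.Modules}, Coh.IsCoh F → DCoh.IsPerfect (DCoh.inD X F) :=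
    fun hF => VBResLib.isPerfect_inD_of_regular hreg hF
  let R : X.Modules → Cx X := fun F => (KFlatLib.resP X).obj (sgl F)
  have hR : ∀ F, DCoh.IsKFlat (R F) := fun F => (KFlatLib.good_resP (sgl F)).1
  let eR : ∀ F, DerivedCategory.Q.obj (R F) ≅ DCoh.inD X F := fun F =>
    haveI := KFlatLib.quasiIso_resψ (X := X) (sgl F)
    asIso (DerivedCategory.Q.map ((KFlatLib.resψ X).app (sgl F))) ≪≫
      ((DerivedCategory.singleFunctorIsoCompQ X.Modules 0).app F).symm
  let Bd : ObjectProperty (DCoh.D (pullback a a)) := fun W =>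
    ∃ N : ℕ, ∀ F : X.Modules, Coh.IsCoh F → Van H N ((kerFun a (R F)).obj W)
  have hsh : ∀ (F : X.Modules) (W : DCoh.D (pullback a a)) (n : ℤ),
      Nonempty ((kerFun a (R F)).obj (W⟦n⟧) ≅ ((kerFun a (R F)).obj W)⟦n⟧) := fun F => by
    obtain ⟨hadd, hF⟩ := kerFun_weakExact a (R F) (hR F)
    exact hF.shift fun W hW => (kerFun a (R F)).map_isZero hW
  haveI : Bd.IsStableUnderRetracts := by
    constructor
    intro W W' r hW
    obtain ⟨N, hN⟩ := hW
    exact ⟨N, fun F hF => (hN F hF).of_retract (r.map (kerFun a (R F)))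
      (KoszOrthLib.isPerfect_of_retract (r.map _) (hN F hF).1)⟩
  haveI : Bd.IsStableUnderShift ℤ := by
    constructor
    intro n
    constructor
    intro W hW
    obtain ⟨N, hN⟩ := hW
    refine ⟨N + n.natAbs, fun F hF => ?_⟩
    obtain ⟨e⟩ := hsh F W n
    exact ((hN F hF).shift n).of_iso e
  haveI : Bd.IsClosedUnderIsomorphisms := by
    constructor
    intro W W' e hW
    obtain ⟨N, hN⟩ := hW
    exact ⟨N, fun F hF => (hN F hF).of_iso ((kerFun a (R F)).mapIso e.symm)⟩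
  haveI : Bd.IsTriangulatedClosed₂ := by
    apply IsTriangulatedClosed₂.mk'
    rintro T hT ⟨N₁, h₁⟩ ⟨N₃, h₃⟩
    refine ⟨max N₁ N₃, fun F hF => ?_⟩
    obtain ⟨T', hT', ⟨e₁⟩, ⟨e₂⟩, ⟨e₃⟩⟩ := (kerFun_weakExact a (R F) (hR F)).2 T hT
    exact (Van.ext hT' (((h₁ F hF).mono (le_max_left _ _)).of_iso e₁)
      (((h₃ F hF).mono (le_max_right _ _)).of_iso e₃)).of_iso e₂.symm
  haveI : Bd.ContainsZero := ⟨0, isZero_zero _, 0, fun F hF => by
    haveI := (kerFun_weakExact a (R F) (hR F)).1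
    have h0 : IsZero ((kerFun a (R F)).obj 0) := (kerFun a (R F)).map_isZero (isZero_zero _)
    exact van_zero h0 (PerfLib.isPerfect_of_isZero h0)⟩
  haveI : Bd.IsTriangulated := { }
  -- the exterior product
  have hbox : Bd (DCoh.inD _ (box p q E G)) := by
    obtain ⟨N₀, hN₀⟩ := exists_van H ⟨DCoh.inD X G, hperf (VBResLib.isCoh_of_vb hG)⟩ (hfin _)
    haveI : CompactSpace (Spec (CommRingCat.of k) : Scheme.{u}) := inferInstance
    obtain ⟨c, hc⟩ := QRlimLib.exists_uniform_bound a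
    refine ⟨N₀ + c.toNat, fun F hF => ?_⟩
    let M := ((DCoh.tensorCx (X := X)).obj (R F)).obj (sgl E)
    have hM : DCoh.IsKFlat M := KFlatLib.isKFlat_tensorCx (hR F) (isKFlat_sgl hE)
    have hFE : Coh.IsCoh (CohB1.tensorMod F E) := by
      haveI := hF.1
      haveI := (VBResLib.isCoh_of_vb hE).1
      exact ⟨(Groth.Agent.S2297.result F E).1, (Groth.Agent.S2297.result F E).2 hF.2 (VBResLib.isCoh_of_vb hE).2⟩
    obtain ⟨eM⟩ : Nonempty (DerivedCategory.Q.obj M ≅ DCoh.inD X (CohB1.tensorMod F E)) := by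
      let θ := TensorAssocLib.flatCnt (sgl E) (isKFlat_sgl hE)
      let b₁ := θ.app (R F)
      let b₂ := (DCoh.LTensorCx (sgl E)).mapIso (eR F ≪≫ (DerivedCategory.singleFunctorIsoCompQ X.Modules 0).app F)
      let b₃ := θ.app (sgl F)
      let b₄ := DerivedCategory.Q.mapIso (sglTensorIso F E)
      exact ⟨b₁.symm ≪≫ b₂ ≪≫ b₃ ≪≫ b₄ ≪≫ ((DerivedCategory.singleFunctorIsoCompQ X.Modules 0).app _).symm⟩
    have hMp : DCoh.IsPerfect (DerivedCategory.Q.obj M) := PerfLib.isPerfect_of_iso eM.symm (hperf hFE)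
    have hMq := KoszOrthLib.isQCohD_of_isPerfect hMp
    haveI : (DerivedCategory.Q.obj M).IsGE 0 := DerivedCategory.TStructure.t.isGE_of_iso eM.symm 0
    haveI : (DerivedCategory.Q.obj M).IsLE 0 := DerivedCategory.TStructure.t.isLE_of_iso eM.symm 0
    obtain ⟨hWc, -⟩ := PerfLib.isCohD_and_bounded_of_isPerfect (Groth.Agent.S1002.result a _ hMp)
    haveI : ((DCoh.Rpush a).obj (DerivedCategory.Q.obj M)).IsGE 0 := QRlimLib.rpush_isGE a _ 0
    haveI : ((DCoh.Rpush a).obj (DerivedCategory.Q.obj M)).IsLE (c.toNat : ℤ) :=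
      (DerivedCategory.isLE_iff _ _).2 fun i hi => hc _ hMq 0 inferInstance i (by omega)
    obtain ⟨e₁⟩ := nonempty_lTensor_box p q E G hG (R F) (hR F)
    obtain ⟨e₂⟩ := Groth.Agent.S0961.result q (sgl G) (isKFlat_sgl hG) (isPerfect_sgl hreg hG)
      (DerivedCategory.Q.obj ((KFlatLib.pullCx p).obj M))
    obtain ⟨e₃⟩ := nonempty_push_pull a M hM hMq
    let d₁ := (DCoh.Rpush q).mapIso e₁
    let d₃ := (DCoh.LTensorCx (sgl G)).mapIso e₃
    exact (exists_van_point H a G hG hN₀ c.toNat _ hWc inferInstance inferInstance).of_iso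
      (d₁ ≪≫ e₂.symm ≪≫ d₃)
  have hle : ObjectProperty.triangEnvelope
      (ObjectProperty.ofObj (fun _ : PUnit.{u + 1} => DCoh.inD _ (box p q E G))) ≤ Bd := by
    rw [ObjectProperty.triangEnvelope_le_iff]
    rintro _ ⟨_⟩
    exact hbox
  obtain ⟨N, hN⟩ := hle _ h
  refine ⟨N, fun F hF => ?_⟩
  obtain ⟨e⟩ := nonempty_kerFun_diag a (R F) (hR F)
  exact (hN F hF).of_iso (e ≪≫ eR F).symm

end Main

end BoxSurjLib
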