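import Groth.Agent.Dual3Lib.LpullTensorNat
import Groth.Agent.Dual3Lib.ProjNat
import Groth.Agent.Dual3Lib.KernelAdj
import Groth.Agent.Dual3Lib.Transform
import Groth.Agent.ProjClosedImmLib.Main
import Groth.Agent.PerfDualLib.Derived
import Groth.Agent.DCohRestrLib.MV
import Groth.Prelude.Def_DualFM

/-!
# The Fourier–Mukai functor of the diagonal
-/

set_option autoImplicit false
set_option linter.style.haveILetI false
set_option maxHeartbeats 1000000
set_option backward.isDefEq.respectTransparency false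
set_option backward.isDefEq.respectTransparency.types false

universe u

open CategoryTheory CategoryTheory.Limits AlgebraicGeometry HomologicalComplex
open Groth.Agent Groth.Agent.DerLib Groth.Agent.PerfDualLib Groth.Agent.ProjFormLib

attribute [local instance] HasDerivedCategory.standard

namespace BoxSurjLib

variable {X P : Scheme.{u}} (i : X ⟶ P) [IsClosedImmersion i]

/-- Exact direct images compute the derived direct image. -/
theorem isIso_pushQ_closed [DCoh.HasRpush i] (T : Cx X) : IsIso (Dual3Lib.pushQ i T) := by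
  haveI := ProjClosedImmLib.preservesHomology_push i
  obtain ⟨I, g, hI, hg⟩ := KFlatLib.enoughKInj_modules (X := X) T
  haveI := hI
  haveI : QuasiIso g := hg
  haveI := Dual3Lib.isIso_pushQ i I
  haveI : QuasiIso ((pushC i).map g) := HomologicalComplex.quasiIso_map_of_preservesHomology _ _
  haveI : IsIso (DerivedCategory.Q.map ((pushC i).map g)) := inferInstance
  haveI : IsIso (DerivedCategory.Q.map g) := inferInstance
  have h := Dual3Lib.pushQ_natural i g
  haveI : IsIso (Dual3Lib.pushQ i T ≫ (DCoh.Rpush i).map (DerivedCategory.Q.map g)) := by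
    rw [← h]
    infer_instance
  exact IsIso.of_isIso_comp_right _ ((DCoh.Rpush i).map (DerivedCategory.Q.map g))

/-- `Q ⋙ Ri_* ≅ i_* ⋙ Q`. -/
noncomputable def pushQIso [DCoh.HasRpush i] :
    pushC i ⋙ DerivedCategory.Q ≅ DerivedCategory.Q ⋙ DCoh.Rpush i :=
  NatIso.ofComponents (fun T => @asIso _ _ _ _ _ (isIso_pushQ_closed i T)) fun g => Dual3Lib.pushQ_natural i g

/-- Changing the kernel on K-flat arguments. -/
noncomputable def tRMapIso {R : Cx P ⥤ Cx P} (hR : ∀ M, DCoh.IsKFlat (R.obj M)) {K K' : Cx P} (s : K ⟶ K')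
    [QuasiIso s] : R ⋙ TensorAssocLib.tR K ⋙ DerivedCategory.Q ≅ R ⋙ TensorAssocLib.tR K' ⋙ DerivedCategory.Q :=
  NatIso.ofComponents
    (fun M =>
      haveI := quasiIso_tL_of_kFlat (hR M) s
      asIso (DerivedCategory.Q.map (((DCoh.tensorCx (X := P)).obj (R.obj M)).map s)))
    fun g => ((DerivedCategory.Q.map_comp _ _).symm.trans (congrArg DerivedCategory.Q.map
      (((DCoh.tensorCx (X := P)).map (R.map g)).naturality s).symm)).trans (DerivedCategory.Q.map_comp _ _)

/-- Symmetry of the tensor product with a fixed complex. -/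
noncomputable def symIso (U : Cx P) :
    TensorAssocLib.tR U ≅ (DCoh.tensorCx (X := P)).obj U :=
  NatIso.ofComponents (fun F => bX F U) fun f => bX_natural f (𝟙 U)

/-- `i_* U ⊗ F ≅ i_*(U ⊗ i^* F)`, naturally. -/
noncomputable def projIso (U : Cx X) :
    (DCoh.tensorCx (X := P)).obj ((pushC i).obj U) ≅
      KFlatLib.pullCx i ⋙ (DCoh.tensorCx (X := X)).obj U ⋙ pushC i :=
  NatIso.ofComponents (fun F => ProjClosedImmLib.pushTensorCxIso i U F) fun {F F'} f => by
    have h := KFlatLib.totalMapIso_natural (ProjClosedImmLib.tensPull i) (DCoh.tensorBi (X := P))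
      (Scheme.Modules.pushforward i) (𝟭 P.Modules) (Scheme.Modules.pushforward i)
      (fun a b => asIso (ProjClosedImmLib.projR i a b))
      (fun φ b => ProjClosedImmLib.projR_natural_left i φ b)
      (fun a {_ _} ψ => ProjClosedImmLib.projR_natural_right i a ψ) (𝟙 U) f
    rw [CategoryTheory.Functor.map_id] at h
    exact h

/-- The kernel `i_* O` gives `Ri_* Li^*`. -/
theorem nonempty_lTensor_push_structure (K : Cx P) [DCoh.HasLTensorCx K] [DCoh.HasLpull i] [DCoh.HasRpush i]
    (hK : Nonempty (DCoh.toD P K ≅ DCoh.inD P ((Coh.push i).obj (Coh.structureModule X)))) :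
    Nonempty (DCoh.LTensorCx K ≅ DCoh.Lpull i ⋙ DCoh.Rpush i) := by
  obtain ⟨eK⟩ := hK
  let J := (pushC i).obj (unitCx X)
  let e : DerivedCategory.Q.obj K ≅ DerivedCategory.Q.obj J :=
    eK ≪≫ (DerivedCategory.singleFunctorIsoCompQ P.Modules 0).app _ ≪≫
      DerivedCategory.Q.mapIso ((HomologicalComplex.singleMapHomologicalComplex (Scheme.Modules.pushforward i)
        (ComplexShape.up ℤ) 0).app (Coh.structureModule X)).symm
  obtain ⟨K'', s, hs, g, hg⟩ := DerivedCategory.right_fac e.hom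
  haveI : IsIso (DerivedCategory.Q.map s) := hs
  haveI : IsIso (DerivedCategory.Q.map g) := by
    have h2 : DerivedCategory.Q.map g = DerivedCategory.Q.map s ≫ e.hom := by
      rw [hg, IsIso.hom_inv_id_assoc]
    rw [h2]
    infer_instance
  haveI : QuasiIso s := (DerivedCategory.isIso_Q_map_iff_quasiIso _ s).1 inferInstance
  haveI : QuasiIso g := (DerivedCategory.isIso_Q_map_iff_quasiIso _ g).1 inferInstance
  have hR : ∀ M, DCoh.IsKFlat ((KFlatLib.resP P).obj M) := fun M => (KFlatLib.good_resP M).1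
  refine Dual3Lib.nonempty_iso_of_resP _ _ ?_
  exact TensorAssocLib.resCnt K ≪≫ (tRMapIso hR s).symm ≪≫ tRMapIso hR g ≪≫
    Functor.isoWhiskerLeft (KFlatLib.resP P) (Functor.isoWhiskerRight
      (symIso J ≪≫ projIso i (unitCx X) ≪≫
        Functor.isoWhiskerLeft (KFlatLib.pullCx i)
          (Functor.isoWhiskerRight ((symIso (unitCx X)).symm ≪≫ unitNat) (pushC i) ≪≫ Functor.leftUnitor _))
      DerivedCategory.Q) ≪≫
    Functor.isoWhiskerLeft (KFlatLib.resP P) (Functor.associator _ _ _) ≪≫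
    Functor.isoWhiskerLeft (KFlatLib.resP P ⋙ KFlatLib.pullCx i) (pushQIso i) ≪≫
    (Functor.associator _ _ _).symm ≪≫
    Functor.isoWhiskerRight (Functor.associator _ _ _) (DCoh.Rpush i) ≪≫
    Functor.isoWhiskerRight (Dual3Lib.pullResIso i hR).symm (DCoh.Rpush i) ≪≫
    Functor.associator _ _ _ ≪≫ Functor.isoWhiskerLeft (KFlatLib.resP P) (Functor.associator _ _ _)

/-- **The diagonal kernel gives the identity.** -/
theorem nonempty_phi_diag {S : Scheme.{u}} {X : Scheme.{u}} (a : X ⟶ S) [IsSeparated a]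
    (K : CochainComplex (pullback a a).Modules ℤ) (hK : Nonempty (DCoh.toD _ K ≅ FMK.diagO a))
    [DCoh.HasLpull (pullback.fst a a)] [DCoh.HasLTensorCx K] [DCoh.HasRpush (pullback.snd a a)] :
    Nonempty (FMK.phi a a K ≅ 𝟭 (DCoh.D X)) := by
  let Δ := pullback.diagonal a
  haveI := KFlatLib.hasLpull Δ
  haveI := DCohRestrLib.hasRpush Δ
  haveI := KFlatLib.hasLpull (Δ ≫ pullback.fst a a)
  haveI := DCohRestrLib.hasRpush (Δ ≫ pullback.snd a a)
  haveI := KFlatLib.hasLpull (𝟙 X)
  haveI := DCohRestrLib.hasRpush (𝟙 X)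
  haveI := KFlatLib.hasLpull (Iso.refl X).hom
  haveI := KFlatLib.hasLpull (Iso.refl X).inv
  haveI := DCohRestrLib.hasRpush (Iso.refl X).hom
  haveI := KFlatLib.hasLpull (pullback.snd a a)
  haveI := KFlatLib.hasLpull (Δ ≫ pullback.snd a a)
  obtain ⟨e₁⟩ := nonempty_lTensor_push_structure Δ K hK
  obtain ⟨e₂⟩ := KFlatLib.lpull_comp Δ (pullback.fst a a)
  obtain ⟨e₂'⟩ := Dual3Lib.nonempty_lpull_id (Δ ≫ pullback.fst a a) (pullback.diagonal_fst a)
  obtain ⟨e₃⟩ := KFlatLib.rpush_comp Δ (pullback.snd a a)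
  obtain ⟨e₃'⟩ := Dual3Lib.nonempty_rpush_congr_nat
    (show Δ ≫ pullback.snd a a = (Iso.refl X).hom from pullback.diagonal_snd a)
  obtain ⟨e₄⟩ := Dual3Lib.nonempty_rpush_iso_lpull (Iso.refl X)
  obtain ⟨e₄'⟩ := Dual3Lib.nonempty_lpull_id (Iso.refl X).inv rfl
  exact ⟨Functor.isoWhiskerLeft (DCoh.Lpull (pullback.fst a a))
      (Functor.isoWhiskerRight e₁ (DCoh.Rpush (pullback.snd a a)) ≪≫ Functor.associator _ _ _) ≪≫
    (Functor.associator _ _ _).symm ≪≫
    Functor.isoWhiskerRight (e₂ ≪≫ e₂') _ ≪≫ Functor.leftUnitor _ ≪≫ e₃ ≪≫ e₃' ≪≫ e₄ ≪≫ e₄'⟩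

end BoxSurjLib
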