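import Groth.Agent.BoxSurjLib.Resolution
import Groth.Agent.Dual3Lib.ExtInjDim
import Groth.Agent.FibDimLib.FieldExt
import Groth.Prelude.Def_DCoh2
import Mathlib.CategoryTheory.Triangulated.Generators

/-!
# The envelope of an exterior product contains the coherent modules on a regular scheme
-/

set_option autoImplicit false
set_option maxRecDepth 8000
set_option linter.style.haveILetI false
set_option backward.isDefEq.respectTransparency false
set_option backward.isDefEq.respectTransparency.types false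

noncomputable section

universe u w v

open CategoryTheory CategoryTheory.Limits AlgebraicGeometry CategoryTheory.Pretriangulated

attribute [local instance] HasDerivedCategory.standard

namespace BoxSurjLib

open DerivedCategory in
/-- An object killed by a long composite of extension classes is built from the middle terms. -/
theorem mem_of_syzygies {A : Type w} [Category.{v} A] [Abelian A] (T : ObjectProperty (DerivedCategory A))
    [T.IsTriangulated] [T.IsStableUnderRetracts] (Zs : ℕ → A) (F : ℕ → A) (i : ∀ j, Zs (j + 1) ⟶ F j)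
    (q : ∀ j, F j ⟶ Zs j) (w : ∀ j, i j ≫ q j = 0) (hS : ∀ j, (ShortComplex.mk (i j) (q j) (w j)).ShortExact)
    (N : ℕ) (hF : ∀ j, j < N → T ((singleFunctor A 0).obj (F j)))
    (hN : ∀ φ : (singleFunctor A 0).obj (Zs 0) ⟶ ((singleFunctor A 0).obj (Zs N))⟦(N : ℤ)⟧, φ = 0) :
    T ((singleFunctor A 0).obj (Zs 0)) := by
  let S0 := singleFunctor A 0
  suffices h : ∀ n, n ≤ N → ∃ φ : S0.obj (Zs 0) ⟶ (S0.obj (Zs n))⟦(n : ℤ)⟧,
      ∃ (C : DerivedCategory A) (g : (S0.obj (Zs n))⟦(n : ℤ)⟧ ⟶ C) (h : C ⟶ (S0.obj (Zs 0))⟦(1 : ℤ)⟧),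
        Triangle.mk φ g h ∈ distTriang (DerivedCategory A) ∧ T C by
    obtain ⟨φ, C, g, h, hT, hC⟩ := h N le_rfl
    have h0 : φ = 0 := hN φ
    let t := (Triangle.mk φ g h).invRotate
    have ht : t ∈ distTriang _ := inv_rot_of_distTriang _ hT
    have h1 : 𝟙 (S0.obj (Zs 0)) ≫ (Triangle.mk φ g h).mor₁ = 0 := by
      simp [h0]
    obtain ⟨s, hs⟩ := Triangle.coyoneda_exact₂ t ht (𝟙 _) (by
      show 𝟙 _ ≫ t.mor₂ = 0
      exact h1)
    exact T.prop_of_retract { i := s, r := t.mor₁, retract := hs.symm } (T.le_shift (-1 : ℤ) _ hC)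
  intro n hn
  induction n with
  | zero =>
    let e : S0.obj (Zs 0) ≅ (S0.obj (Zs 0))⟦((0 : ℕ) : ℤ)⟧ :=
      ((shiftFunctorZero' (DerivedCategory A) ((0 : ℕ) : ℤ) (by simp)).app _).symm
    obtain ⟨C, g, h, hT⟩ := distinguished_cocone_triangle e.hom
    refine ⟨e.hom, C, g, h, hT, ?_⟩
    have hC : IsZero C := (Triangle.isZero₃_iff_isIso₁ _ hT).2 (inferInstanceAs (IsIso e.hom))
    exact T.prop_of_isZero hC
  | succ n ih =>
    obtain ⟨φ, C, g, h, hT, hC⟩ := ih (by omega)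
    let S := ShortComplex.mk (i n) (q n) (w n)
    have hs := hS n
    have hd : Triangle.rotate hs.singleTriangle ∈ distTriang (DerivedCategory A) :=
      rot_of_distTriang _ hs.singleTriangle_distinguished
    have hd' : Triangle.rotate (Triangle.rotate hs.singleTriangle) ∈ distTriang (DerivedCategory A) :=
      rot_of_distTriang _ hd
    let t := (Triangle.shiftFunctor (DerivedCategory A) (n : ℤ)).obj (Triangle.rotate (Triangle.rotate hs.singleTriangle))
    have ht : t ∈ distTriang (DerivedCategory A) := Triangle.shift_distinguished _ hd' _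
    let ψ : (S0.obj (Zs n))⟦(n : ℤ)⟧ ⟶ (S0.obj (Zs (n + 1)))⟦((n + 1 : ℕ) : ℤ)⟧ :=
      t.mor₁ ≫ ((shiftFunctorAdd' (DerivedCategory A) (1 : ℤ) (n : ℤ) ((n + 1 : ℕ) : ℤ)
        (by push_cast; ring)).app (S0.obj (Zs (n + 1)))).inv
    obtain ⟨C₂, g₂, h₂, hT₂⟩ := distinguished_cocone_triangle ψ
    obtain ⟨C₃, g₃, h₃, hT₃⟩ := distinguished_cocone_triangle (φ ≫ ψ)
    have hC₂ : T C₂ := by
      let e : Triangle.mk ψ g₂ h₂ ≅ Triangle.mk t.mor₁ t.mor₂ t.mor₃ :=
        isoTriangleOfIso₁₂ _ _ hT₂ ht (Iso.refl _) ((shiftFunctorAdd' (DerivedCategory A) (1 : ℤ) (n : ℤ)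
          ((n + 1 : ℕ) : ℤ) (by push_cast; ring)).app (S0.obj (Zs (n + 1)))) (by
            show ψ ≫ _ = 𝟙 _ ≫ t.mor₁
            rw [Category.id_comp, Category.assoc, Iso.inv_hom_id, Category.comp_id])
      exact T.prop_of_iso (Triangle.π₃.mapIso e).symm
        (T.le_shift (n : ℤ) _ (T.le_shift (1 : ℤ) _ (hF n (by omega))))
    exact ⟨φ ≫ ψ, C₃, g₃, h₃, hT₃,
      T.ext_of_isTriangulatedClosed₂ _ (Triangulated.someOctahedron rfl hT hT₂ hT₃).mem hC hC₂⟩

variable {X Y Z : Scheme.{u}} (p : Z ⟶ X) (q : Z ⟶ Y)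

theorem exists_common_box (n : ℕ) (Es : ℕ → X.Modules) (Gs : ℕ → Y.Modules)
    (hE : ∀ j, FlatMod.IsFinLocFree (Es j)) (hG : ∀ j, FlatMod.IsFinLocFree (Gs j)) :
    ∃ (E : X.Modules) (G : Y.Modules), FlatMod.IsFinLocFree E ∧ FlatMod.IsFinLocFree G ∧
      ∀ j, j < n → ∃ (s : box p q (Es j) (Gs j) ⟶ box p q E G) (r : box p q E G ⟶ box p q (Es j) (Gs j)),
        s ≫ r = 𝟙 _ := by
  induction n with
  | zero => exact ⟨Es 0, Gs 0, hE 0, hG 0, fun j hj => absurd hj (by omega)⟩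
  | succ n ih =>
    obtain ⟨E, G, hE', hG', h⟩ := ih
    refine ⟨Es n ⊞ E, Gs n ⊞ G, Groth.Agent.PerfLib.isFinLocFree_biprod (hE n) hE',
      Groth.Agent.PerfLib.isFinLocFree_biprod (hG n) hG', fun j hj => ?_⟩
    rcases Nat.lt_succ_iff_lt_or_eq.mp hj with hlt | rfl
    · obtain ⟨s, r, hsr⟩ := h j hlt
      refine ⟨s ≫ boxMap p q biprod.inr biprod.inr, boxMap p q biprod.snd biprod.snd ≫ r, ?_⟩
      rw [Category.assoc, ← Category.assoc (boxMap p q biprod.inr biprod.inr),
        boxMap_id_comp p q biprod.inr_snd biprod.inr_snd, Category.id_comp, hsr]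
    · exact ⟨_, _, boxMap_id_comp p q biprod.inl_fst biprod.inl_fst⟩

/-- **Coherent modules lie in the envelope of one exterior product.** -/
theorem exists_box_envelope [IsLocallyNoetherian Z] (hreg : Models.IsRegularScheme Z) {d : ℕ}
    (hd : topologicalKrullDim Z ≤ d)
    (h : ∀ F : Z.Modules, Coh.IsCoh F → ∃ (E : X.Modules) (G : Y.Modules), FlatMod.IsFinLocFree E ∧
      FlatMod.IsFinLocFree G ∧ ∃ π : box p q E G ⟶ F, Epi π)
    (M : Z.Modules) (hM : Coh.IsCoh M) :
    ∃ (E : X.Modules) (G : Y.Modules), FlatMod.IsFinLocFree E ∧ FlatMod.IsFinLocFree G ∧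
      ObjectProperty.triangEnvelope (ObjectProperty.ofObj (fun _ : PUnit.{u + 1} => DCoh.inD Z (box p q E G)))
        (DCoh.inD Z M) := by
  classical
  choose Es Gs hE hG π hπ using fun N : {N : Z.Modules // Coh.IsCoh N} => h N.1 N.2
  have hK : ∀ N : {N : Z.Modules // Coh.IsCoh N}, Coh.IsCoh (kernel (π N)) := fun N =>
    QCohLib.isCoh_kernel _ (VBResLib.isCoh_of_vb (isFinLocFree_box p q (hE N) (hG N))) N.2.1
  let S : ℕ → {N : Z.Modules // Coh.IsCoh N} := fun n => Nat.rec ⟨M, hM⟩ (fun _ N => ⟨_, hK N⟩) n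
  obtain ⟨E, G, hE', hG', hr⟩ := exists_common_box p q (d + 1) (fun j => Es (S j)) (fun j => Gs (S j))
    (fun j => hE _) (fun j => hG _)
  refine ⟨E, G, hE', hG', ?_⟩
  haveI : (ObjectProperty.ofObj (fun _ : PUnit.{u + 1} => DCoh.inD Z (box p q E G))).Nonempty :=
    ⟨⟨_, ⟨PUnit.unit⟩⟩⟩
  refine mem_of_syzygies _ (fun n => (S n).1) (fun n => box p q (Es (S n)) (Gs (S n)))
    (fun n => kernel.ι (π (S n))) (fun n => π (S n)) (fun n => kernel.condition _) (fun n => ?_) (d + 1)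
    (fun j hj => ?_) (fun φ => ?_)
  · haveI := hπ (S n)
    exact K0ResLib.kerSeq_shortExact (π (S n))
  · obtain ⟨s, r, hsr⟩ := hr j hj
    let S0 := DerivedCategory.singleFunctor Z.Modules 0
    refine ObjectProperty.prop_of_retract _ (⟨S0.map s, S0.map r, ?_⟩ : Retract (S0.obj _) (S0.obj _))
      (ObjectProperty.le_triangEnvelope _ _ ⟨PUnit.unit⟩)
    rw [← Functor.map_comp, hsr, CategoryTheory.Functor.map_id]
  · haveI : Coh.IsQCoh (S (d + 1)).1 := (S (d + 1)).2.1
    haveI := Groth.Agent.Dual3Lib.hasInjectiveDimensionLT_of_isRegularScheme hreg d hd (S (d + 1)).1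
    let e := ((DerivedCategory.singleFunctors Z.Modules).shiftIso ((d + 1 : ℕ) : ℤ) (-((d + 1 : ℕ) : ℤ)) 0
      (add_neg_cancel _)).app (S (d + 1)).1
    haveI : HasExt.{u + 1} Z.Modules := hasExt_of_hasDerivedCategory Z.Modules
    rw [← cancel_mono e.hom, zero_comp]
    exact Groth.Agent.Dual3Lib.single_hom_eq_zero (n := d + 1) 0 (-((d + 1 : ℕ) : ℤ)) (by omega) _

/-- A scheme of finite type over a field has finite dimension. -/
theorem exists_krullDim_le {k : Type u} [Field k] {P : Scheme.{u}} (f : P ⟶ Spec (CommRingCat.of k))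
    [LocallyOfFiniteType f] [CompactSpace P] : ∃ d : ℕ, topologicalKrullDim P ≤ d := by
  classical
  choose U hU hxU _ using fun x : P => exists_isAffineOpen_mem_and_subset (U := (⊤ : P.Opens)) (x := x) trivial
  obtain ⟨S, hS⟩ := isCompact_univ.elim_finite_subcover (fun x => (U x : Set P)) (fun x => (U x).2)
    fun x _ => Set.mem_iUnion.mpr ⟨x, hxU x⟩
  have hs : ∀ x, ∃ s : ℕ, topologicalKrullDim (U x) ≤ s := fun x => by
    haveI : IsAffine (U x).toScheme := hU x
    obtain ⟨φ, hφ⟩ : ∃ φ : CommRingCat.of k ⟶ Γ((U x).toScheme, ⊤),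
        Spec.map φ = (U x).toScheme.isoSpec.inv ≫ (U x).ι ≫ f := Spec.map_surjective _
    letI := φ.hom.toAlgebra
    haveI : Algebra.FiniteType k Γ((U x).toScheme, ⊤) := RingHom.finiteType_algebraMap.mp
      ((HasRingHomProperty.Spec_iff (P := @LocallyOfFiniteType)).mp
        (hφ ▸ (inferInstance : LocallyOfFiniteType ((U x).toScheme.isoSpec.inv ≫ (U x).ι ≫ f))))
    cases subsingleton_or_nontrivial Γ((U x).toScheme, ⊤) with
    | inl h =>
      refine ⟨0, ?_⟩
      rw [IsHomeomorph.topologicalKrullDim_eq _ (Scheme.homeoOfIso (U x).toScheme.isoSpec).isHomeomorph,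
        show topologicalKrullDim ↥(Spec Γ((U x).toScheme, ⊤)) = ringKrullDim Γ((U x).toScheme, ⊤) from
          PrimeSpectrum.topologicalKrullDim_eq_ringKrullDim _, ringKrullDim_eq_bot_of_subsingleton]
      exact bot_le
    | inr h =>
      obtain ⟨s, g, hg, hgf⟩ := exists_finite_inj_algHom_of_fg k Γ((U x).toScheme, ⊤)
      letI := g.toRingHom.toAlgebra
      haveI : Module.Finite (MvPolynomial (Fin s) k) Γ((U x).toScheme, ⊤) := hgf
      refine ⟨s, ?_⟩
      rw [IsHomeomorph.topologicalKrullDim_eq _ (Scheme.homeoOfIso (U x).toScheme.isoSpec).isHomeomorph,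
        show topologicalKrullDim ↥(Spec Γ((U x).toScheme, ⊤)) = ringKrullDim Γ((U x).toScheme, ⊤) from
          PrimeSpectrum.topologicalKrullDim_eq_ringKrullDim _,
        CommAlgDim.ringKrullDim_eq_of_integral (MvPolynomial (Fin s) k) Γ((U x).toScheme, ⊤) hg,
        MvPolynomial.ringKrullDim_of_isNoetherianRing, ringKrullDim_eq_zero_of_field]
      simp
  choose s hs using hs
  refine ⟨S.sup s, (FibDimLib.topologicalKrullDim_le_iSup (fun x : S => U x.1) fun y => ?_).trans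
    (iSup_le fun x => (hs x.1).trans ?_)⟩
  · obtain ⟨x, hx, hyx⟩ := Set.mem_iUnion₂.mp (hS (Set.mem_univ y))
    exact ⟨⟨x, hx⟩, hyx⟩
  · exact_mod_cast Finset.le_sup (f := s) x.2

end BoxSurjLib
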