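import Groth.Agent.BoxSurjLib.WeakExact
import Groth.Agent.Dual3Lib.ExtInjDim
import Groth.Agent.PerfHomLib.Retract
import Groth.Agent.PerfLib.Coherent
import Groth.Agent.KoszOrthLib.Neg
import Groth.Agent.QCohLib.Coherent
import Groth.Agent.MiscFlat6.FreeStalks
import Groth.Agent.VBResLib.Res

/-!
# Perfect objects over a field are sums of shifts of the structure sheaf
-/

set_option autoImplicit false
set_option linter.style.haveILetI false
set_option maxHeartbeats 1000000
set_option backward.isDefEq.respectTransparency false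
set_option backward.isDefEq.respectTransparency.types false

universe u

open CategoryTheory CategoryTheory.Limits CategoryTheory.Pretriangulated AlgebraicGeometry ObjectProperty
open Groth.Agent DerivedCategory DerivedCategory.TStructure

attribute [local instance] HasDerivedCategory.standard

namespace BoxSurjLib

variable (k : Type u) [Field k]

/-- The point. -/
local notation "P" => (Spec (CommRingCat.of k))

/-- The structure sheaf as an object property. -/
abbrev unitP : ObjectProperty (DCoh.D P) :=
  ObjectProperty.ofObj fun _ : PUnit.{u + 1} => DCoh.inD P (Coh.structureModule P)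

theorem prop_of_isZero₀ {A : DCoh.D P} (hA : IsZero A) : (unitP k).triangEnvelopeIter 0 A := by
  refine prop_of_retract _ ({ i := 0, r := 0, retract := hA.eq_of_src _ _ } : Retract A _)
    ((unitP k).le_triangEnvelopeIter 0 _ ⟨PUnit.unit⟩)

theorem isField_stalk (x : (Spec (CommRingCat.of k) : Scheme.{u})) :
    IsField ((P).presheaf.stalk x) := by
  haveI : Fact (IsField k) := ⟨Field.toIsField k⟩
  let p : PrimeSpectrum k := x
  have e := (Spec.stalkIso (CommRingCat.of k) x).commRingCatIsoToRingEquiv
  refine MulEquiv.isField ?_ e.toMulEquiv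
  have hbot : p.asIdeal = ⊥ := (Ideal.eq_bot_or_top p.asIdeal).resolve_right p.isPrime.ne_top
  exact MulEquiv.isField (Field.toIsField k)
    (IsLocalization.atUnits k p.asIdeal.primeCompl (S := Localization.AtPrime p.asIdeal) (fun a ha => by
      refine Ne.isUnit ?_
      rintro rfl
      exact ha (zero_mem _))).symm.toMulEquiv

theorem isFinLocFree_point {M : (P).Modules} (hM : Coh.IsCoh M) : FlatMod.IsFinLocFree M := by
  haveI := hM.1
  refine MiscFlat6.isFlat_and_isFP_iff.1 ⟨fun x => ?_, QCohLib.isFP_of_isCoh M hM⟩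
  letI := (isField_stalk k x).toField
  exact Module.Flat.of_free

theorem prop_inD_point {M : (P).Modules} (hM : Coh.IsCoh M) :
    (unitP k).triangEnvelopeIter 0 (DCoh.inD P M) := by
  obtain ⟨G, i, r, ⟨n, ⟨eG⟩⟩, hir⟩ := PerfHomLib.exists_retract_spec (isFinLocFree_point k hM)
  let S0 := DerivedCategory.singleFunctor (P).Modules 0
  refine prop_of_retract _ ((({ i := i, r := r, retract := hir } : Retract M G).map S0)) ?_
  refine prop_of_iso _ (S0.mapIso eG).symm ?_
  clear eG hir i r G hM M
  induction n with
  | zero =>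
    refine prop_of_isZero₀ k (S0.map_isZero ?_)
    exact (IsZero.iff_id_eq_zero _).mpr (Sigma.hom_ext _ _ fun j => j.elim0)
  | succ n ih =>
    let e : FlatMod.freeMod (P) (n + 1) ≅ Coh.structureModule (P) ⊞ FlatMod.freeMod (P) n :=
      { hom := Sigma.desc (Fin.cases biprod.inl fun j => Sigma.ι (fun _ : Fin n => Coh.structureModule (P)) j ≫ biprod.inr)
        inv := biprod.desc (Sigma.ι (fun _ : Fin (n + 1) => Coh.structureModule (P)) 0)
          (Sigma.desc fun j => Sigma.ι (fun _ : Fin (n + 1) => Coh.structureModule (P)) j.succ)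
        hom_inv_id := Sigma.hom_ext _ _ fun j => by
          induction j using Fin.cases <;> simp
        inv_hom_id := by
          apply biprod.hom_ext'
          · simp
          · exact Sigma.hom_ext _ _ fun j => by simp }
    haveI : PreservesBinaryBiproduct (Coh.structureModule P) (FlatMod.freeMod P n) S0 :=
      preservesBinaryBiproduct_of_preservesBiproduct _ _ _
    exact prop_of_iso _ (S0.mapIso e ≪≫ S0.mapBiprod _ _).symm
      (prop_biprod₀ _ ((unitP k).le_triangEnvelopeIter 0 _ ⟨PUnit.unit⟩) ih)

theorem isRegularScheme_point : Models.IsRegularScheme (P) := fun x => by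
  letI := (isField_stalk k x).toField
  infer_instance

theorem prop_of_bounded_point (a : ℤ) (n : ℕ) (K : DCoh.D P) [K.IsGE a] [K.IsLE (a + n)]
    (hK : DCoh.IsCohD K) : (unitP k).triangEnvelopeIter 0 K := by
  have hsingle : ∀ (q : ℤ) (M : (P).Modules), Coh.IsCoh M →
      (unitP k).triangEnvelopeIter 0 ((singleFunctor (P).Modules q).obj M) := fun q M hM => by
    refine prop_of_iso _ (((singleFunctors (P).Modules).shiftIso (-q) q 0 (by omega)).app M) ?_
    exact ((unitP k).triangEnvelopeIter 0).le_shift (-q) _ (prop_inD_point k hM)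
  induction n generalizing K with
  | zero =>
    haveI : K.IsLE a := t.isLE_of_le K (a + ((0 : ℕ) : ℤ)) a (by omega)
    obtain ⟨e⟩ := DerLib.Devissage.nonempty_iso_single K a
    exact prop_of_iso _ e.symm (hsingle a _ (hK a))
  | succ n ih =>
    let b : ℤ := a + n
    haveI : K.IsLE (b + 1) := t.isLE_of_le K (a + ((n + 1 : ℕ) : ℤ)) (b + 1) (by simp [b]; omega)
    let L := (t.truncLE b).obj K
    let G := (t.truncGT b).obj K
    haveI : L.IsGE a := by
      rw [isGE_iff]
      intro i hi
      by_cases hib : i ≤ b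
      · haveI := DerLib.Devissage.isIso_homology_truncLEι K b i hib
        exact (isZero_of_isGE K a i hi).of_iso (asIso ((homologyFunctor _ i).map ((t.truncLEι b).app K)))
      · exact isZero_of_isLE L b i (by omega)
    have hL : DCoh.IsCohD L := fun i => by
      by_cases hib : i ≤ b
      · haveI := DerLib.Devissage.isIso_homology_truncLEι K b i hib
        exact QCohLib.isCoh_of_iso (asIso ((homologyFunctor _ i).map ((t.truncLEι b).app K))).symm (hK i)
      · exact VBResLib.isCoh_of_vb (VBResLib.vb_of_isZero (isZero_of_isLE L b i (by omega)))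
    haveI : L.IsLE (a + n) := t.isLE_of_le _ b (a + n) le_rfl
    haveI : G.IsLE (b + 1) := by
      rw [isLE_iff]
      intro i hi
      haveI := DerLib.Devissage.isIso_homology_truncGTπ K b i (by omega)
      exact (isZero_of_isLE K (b + 1) i hi).of_iso
        (asIso ((homologyFunctor _ i).map ((t.truncGTπ b).app K))).symm
    haveI : G.IsGE (b + 1) := inferInstance
    obtain ⟨e⟩ := DerLib.Devissage.nonempty_iso_single G (b + 1)
    haveI := DerLib.Devissage.isIso_homology_truncGTπ K b (b + 1) (by omega)
    have hG : (unitP k).triangEnvelopeIter 0 G := prop_of_iso _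
      ((singleFunctor _ (b + 1)).mapIso (asIso ((homologyFunctor _ (b + 1)).map ((t.truncGTπ b).app K))) ≪≫ e.symm)
      (hsingle (b + 1) _ (hK (b + 1)))
    let T := (t.triangleLEGT b).obj K
    have hT : T ∈ distTriang _ := t.triangleLEGT_distinguished b K
    haveI : (L⟦(1 : ℤ)⟧).IsGE (a - 1) := t.isGE_shift L a 1 (a - 1) (by omega)
    haveI : (L⟦(1 : ℤ)⟧).IsLE (b + 1 - 1) :=
      have : (L⟦(1 : ℤ)⟧).IsLE (b - 1) := t.isLE_shift L b 1 (b - 1) (by omega)
      t.isLE_of_le _ (b - 1) (b + 1 - 1) (by omega)
    haveI : G.IsGE (b + 1 + ((0 : ℕ) : ℤ)) := t.isGE_of_ge G (b + 1 + ((0 : ℕ) : ℤ)) (b + 1) (by simp)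
    have hd : topologicalKrullDim (P : Scheme.{u}) ≤ ((0 : ℕ) : WithBot ℕ∞) := by
      rw [show topologicalKrullDim (P : Scheme.{u}) = ringKrullDim k from
        PrimeSpectrum.topologicalKrullDim_eq_ringKrullDim k, ringKrullDim_eq_zero_of_field]
      rfl
    have h0 : T.mor₃ = 0 := by
      refine Dual3Lib.hom_eq_zero_of_gap (isRegularScheme_point k) 0 hd (fun i => ?_) (b + 1) (b + 1) (a - 1)
        (K := G) (L := L⟦(1 : ℤ)⟧) T.mor₃
      exact (QCohLib.isCoh_of_iso (((homologyFunctor _ 0).shiftIso 1 i (1 + i) rfl).app L).symm (hL (1 + i))).1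
    obtain ⟨e', -, -⟩ := exists_iso_binaryBiproduct_of_distTriang T hT h0
    exact prop_of_iso _ e'.symm (prop_biprod₀ _ (ih L hL) hG)

/-- **Perfect objects on a point.** -/
theorem prop_of_isPerfect_point {K : DCoh.D P} (hK : DCoh.IsPerfect K) :
    (unitP k).triangEnvelopeIter 0 K := by
  haveI : IsNoetherian (P : Scheme.{u}) := inferInstance
  obtain ⟨hc, a, b, ha, hb⟩ := Groth.Agent.PerfLib.isCohD_and_bounded_of_isPerfect hK
  haveI : K.IsLE (a + (b - a).toNat) := t.isLE_of_le K b _ (by omega)
  exact prop_of_bounded_point k a (b - a).toNat K hc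

end BoxSurjLib
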