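import Groth.Agent.BoxSurjLib.Cut
import Groth.Agent.AlgzCohLib.PiSections

/-!
# Surjections from exterior products of locally free modules
-/

set_option autoImplicit false
set_option maxRecDepth 8000
set_option backward.isDefEq.respectTransparency false
set_option backward.isDefEq.respectTransparency.types false

noncomputable section

universe u

open CategoryTheory CategoryTheory.Limits AlgebraicGeometry TopologicalSpace Opposite
open CohCmpLib (homMod happ evMod curryMod)
open AmpleLib (res)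

namespace BoxSurjLib

/-- The bifunctorial map of a pair of maps. -/
def tmap {Z : Scheme.{u}} {A A' B B' : Z.Modules} (f : A ⟶ A') (g : B ⟶ B') :
    CohB1.tensorMod A B ⟶ CohB1.tensorMod A' B' :=
  ((DCoh.tensorBi (X := Z)).map f).app B ≫ ((DCoh.tensorBi (X := Z)).obj A').map g

theorem tmap_id {Z : Scheme.{u}} (A B : Z.Modules) : tmap (𝟙 A) (𝟙 B) = 𝟙 _ := by
  simp only [tmap, CategoryTheory.Functor.map_id, NatTrans.id_app, Category.comp_id]
  rfl

theorem tmap_comp {Z : Scheme.{u}} {A A' A'' B B' B'' : Z.Modules} (f : A ⟶ A') (f' : A' ⟶ A'') (g : B ⟶ B')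
    (g' : B' ⟶ B'') : tmap (f ≫ f') (g ≫ g') = tmap f g ≫ tmap f' g' := by
  simp only [tmap, CategoryTheory.Functor.map_comp, NatTrans.comp_app, Category.assoc]
  exact congrArg (fun t => _ ≫ t) (by rw [← Category.assoc, ← NatTrans.naturality, Category.assoc])

theorem tmap_zero_right {Z : Scheme.{u}} {A A' B B' : Z.Modules} (f : A ⟶ A') :
    tmap f (0 : B ⟶ B') = 0 := by
  haveI : ((DCoh.tensorBi (X := Z)).obj A').IsLeftAdjoint := CohCmpLib.hasSheafHom A'
  rw [tmap, Functor.map_zero, comp_zero]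

variable {X Y Z : Scheme.{u}} (p : Z ⟶ X) (q : Z ⟶ Y)

/-- The exterior product along a pair of maps. -/
abbrev box (E : X.Modules) (G : Y.Modules) : Z.Modules :=
  CohB1.tensorMod ((Scheme.Modules.pullback p).obj E) ((Scheme.Modules.pullback q).obj G)

/-- The map of exterior products. -/
def boxMap {E E' : X.Modules} {G G' : Y.Modules} (f : E ⟶ E') (g : G ⟶ G') : box p q E G ⟶ box p q E' G' :=
  tmap ((Scheme.Modules.pullback p).map f) ((Scheme.Modules.pullback q).map g)

theorem boxMap_id_comp {E E' : X.Modules} {G G' : Y.Modules} {f : E ⟶ E'} {f' : E' ⟶ E}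
    {g : G ⟶ G'} {g' : G' ⟶ G} (hf : f ≫ f' = 𝟙 E) (hg : g ≫ g' = 𝟙 G) :
    boxMap p q f g ≫ boxMap p q f' g' = 𝟙 _ := by
  rw [boxMap, boxMap, ← tmap_comp, ← CategoryTheory.Functor.map_comp, ← CategoryTheory.Functor.map_comp, hf, hg,
    CategoryTheory.Functor.map_id, CategoryTheory.Functor.map_id, tmap_id]

theorem boxMap_zero_comp {E E' E'' : X.Modules} {G G' G'' : Y.Modules} {f : E ⟶ E'} {f' : E' ⟶ E''}
    {g : G ⟶ G'} {g' : G' ⟶ G''} (hg : g ≫ g' = 0) :
    boxMap p q f g ≫ boxMap p q f' g' = 0 := by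
  haveI := Scheme.Modules.pullbackPushforwardAdjunction q
  haveI : (Scheme.Modules.pullback q).IsLeftAdjoint :=
    (Scheme.Modules.pullbackPushforwardAdjunction q).isLeftAdjoint
  rw [boxMap, boxMap, ← tmap_comp, ← CategoryTheory.Functor.map_comp, ← CategoryTheory.Functor.map_comp, hg,
    Functor.map_zero, tmap_zero_right]

theorem exists_box_kill [CompactSpace X] [QuasiSeparatedSpace X] [CompactSpace Y] [QuasiSeparatedSpace Y]
    [QuasiSeparatedSpace Z] [QuasiCompact p] [QuasiSeparated p] [QuasiCompact q] [QuasiSeparated q]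
    (hX : PerfAux.HasResolutionProperty X) (hY : PerfAux.HasResolutionProperty Y)
    (F : Z.Modules) [Coh.IsQCoh F] {U : X.Opens} (hU : IsAffineOpen U) {V : Y.Opens} (hV : IsAffineOpen V)
    (m : Γ(F, p ⁻¹ᵁ U ⊓ q ⁻¹ᵁ V)) :
    ∃ (E : X.Modules) (G : Y.Modules) (β : box p q E G ⟶ F), FlatMod.IsFinLocFree E ∧ FlatMod.IsFinLocFree G ∧
      ∀ {M : Z.Modules} (r : F ⟶ M), β ≫ r = 0 → r.app (p ⁻¹ᵁ U ⊓ q ⁻¹ᵁ V) m = 0 := by
  let W : Z.Opens := q ⁻¹ᵁ V
  let T : Z.Opens := p ⁻¹ᵁ U ⊓ W
  haveI : CompactSpace Z := QuasiCompact.compactSpace_of_compactSpace p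
  haveI : QuasiCompact W.ι := ChowLib.quasiCompact_ι_of_isCompact W (q.isCompact_preimage hV.isCompact)
  haveI : Coh.IsQCoh (cutMod W F) := QCohLib.isQCoh_pushforward W.ι (F.restrict W.ι)
  haveI : Coh.IsQCoh ((Scheme.Modules.pushforward p).obj (cutMod W F)) := QCohLib.isQCoh_pushforward p _
  have hle : W.ι ''ᵁ (W.ι ⁻¹ᵁ (p ⁻¹ᵁ U)) ≤ T := le_inf (W.ι.image_preimage_le _) (image_le_left W _)
  let mU : Γ((Scheme.Modules.pushforward p).obj (cutMod W F), U) :=
    (show Γ(F, W.ι ''ᵁ (W.ι ⁻¹ᵁ (p ⁻¹ᵁ U))) from res F hle m)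
  obtain ⟨S, hS, hmS⟩ := QCohLib.LocSub.exists_ft_through U hU mU
  obtain ⟨E, π, hE, hπ⟩ := hX S.toModules (QCohLib.LocSub.isQCoh_toModules S hS) (QCohLib.LocSub.isFT_toModules S hS)
  let adjP := Scheme.Modules.pullbackPushforwardAdjunction p
  let γ : (Scheme.Modules.pullback p).obj E ⟶ cutMod W F := (adjP.homEquiv _ _).symm (π ≫ S.ι)
  have hA : FlatMod.IsFinLocFree ((Scheme.Modules.pullback p).obj E) := KFlatLib.isFinLocFree_pull p hE
  haveI : Coh.IsQCoh (homMod ((Scheme.Modules.pullback p).obj E) F) := isQCoh_homMod hA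
  haveI : Coh.IsQCoh ((Scheme.Modules.pushforward q).obj (homMod ((Scheme.Modules.pullback p).obj E) F)) :=
    QCohLib.isQCoh_pushforward q _
  let sV : Γ((Scheme.Modules.pushforward q).obj (homMod ((Scheme.Modules.pullback p).obj E) F), V) :=
    (show Γ(homMod ((Scheme.Modules.pullback p).obj E) F, W) from cutSec W γ)
  obtain ⟨S', hS', hsS⟩ := QCohLib.LocSub.exists_ft_through V hV sV
  obtain ⟨G, π', hG, hπ'⟩ := hY S'.toModules (QCohLib.LocSub.isQCoh_toModules S' hS')
    (QCohLib.LocSub.isFT_toModules S' hS')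
  let adjQ := Scheme.Modules.pullbackPushforwardAdjunction q
  let δ : (Scheme.Modules.pullback q).obj G ⟶ homMod ((Scheme.Modules.pullback p).obj E) F :=
    (adjQ.homEquiv _ _).symm (π' ≫ S'.ι)
  refine ⟨E, G, ((DCoh.tensorBi (X := Z)).obj ((Scheme.Modules.pullback p).obj E)).map δ ≫ evMod _ F, hE, hG,
    fun {M} r hr => ?_⟩
  have h1 := comp_curry_eq_zero δ r hr
  have h2 : (π' ≫ S'.ι) ≫ (Scheme.Modules.pushforward q).map (curryMod (evMod _ F ≫ r)) = 0 := by
    apply (adjQ.homEquiv _ _).symm.injective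
    rw [Adjunction.homEquiv_naturality_right_symm]
    exact h1.trans (by rw [Adjunction.homEquiv_counit, Functor.map_zero, zero_comp])
  have h3 : S'.ι ≫ (Scheme.Modules.pushforward q).map (curryMod (evMod _ F ≫ r)) = 0 :=
    hπ'.left_cancellation _ _ ((Category.assoc _ _ _).symm.trans (h2.trans comp_zero.symm))
  have h4 := congr($(congrArg (fun φ => Scheme.Modules.Hom.app φ V) h3) (S'.lift sV hsS))
  change ((Scheme.Modules.pushforward q).map (curryMod (evMod _ F ≫ r))).app V (S'.ι.app V (S'.lift sV hsS)) = 0 at h4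
  rw [QCohLib.LocSub.ι_lift] at h4
  change (curryMod (evMod _ F ≫ r)).app W (cutSec W γ) = 0 at h4
  have h5 : γ ≫ cutMap W r = 0 := by
    refine cutSec_kill W γ r fun O hO a => happ_eq_zero_of_curry r _ ?_ a
    rw [← MiscFlat6.app_res, h4]
    exact map_zero _
  have h6 : (π ≫ S.ι) ≫ (Scheme.Modules.pushforward p).map (cutMap W r) = 0 := by
    apply (adjP.homEquiv _ _).symm.injective
    rw [Adjunction.homEquiv_naturality_right_symm]
    exact h5.trans (by rw [Adjunction.homEquiv_counit, Functor.map_zero, zero_comp])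
  have h7 : S.ι ≫ (Scheme.Modules.pushforward p).map (cutMap W r) = 0 :=
    hπ.left_cancellation _ _ ((Category.assoc _ _ _).symm.trans (h6.trans comp_zero.symm))
  have h8 := congr($(congrArg (fun φ => Scheme.Modules.Hom.app φ U) h7) (S.lift mU hmS))
  change ((Scheme.Modules.pushforward p).map (cutMap W r)).app U (S.ι.app U (S.lift mU hmS)) = 0 at h8
  rw [QCohLib.LocSub.ι_lift] at h8
  change r.app (W.ι ''ᵁ (W.ι ⁻¹ᵁ (p ⁻¹ᵁ U))) (res F hle m) = 0 at h8
  rw [← MiscFlat6.app_res] at h8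
  have hge : T ≤ W.ι ''ᵁ (W.ι ⁻¹ᵁ (p ⁻¹ᵁ U)) := fun y hy => ⟨⟨y, hy.2⟩, hy.1, rfl⟩
  have h9 := congrArg (res M hge) h8
  rw [AmpleLib.res_res, AmpleLib.res_refl] at h9
  exact h9.trans (map_zero _)

/-- **Quotients of exterior products.** -/
theorem exists_box_surjection {S : Scheme.{u}} [IsAffine S] (f : X ⟶ S) (g : Y ⟶ S)
    [CompactSpace X] [QuasiSeparatedSpace X] [CompactSpace Y] [QuasiSeparatedSpace Y]
    (hX : PerfAux.HasResolutionProperty X) (hY : PerfAux.HasResolutionProperty Y)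
    (F : (pullback f g).Modules) [Coh.IsQCoh F] (hF : CohB1.IsFT F) :
    ∃ (E : X.Modules) (G : Y.Modules), FlatMod.IsFinLocFree E ∧ FlatMod.IsFinLocFree G ∧
      ∃ π : box (pullback.fst f g) (pullback.snd f g) E G ⟶ F, Epi π := by
  classical
  haveI : QuasiCompact f := (quasiCompact_iff_compactSpace f).mpr ‹_›
  haveI : QuasiCompact g := (quasiCompact_iff_compactSpace g).mpr ‹_›
  haveI : QuasiSeparated f := (quasiSeparated_iff_quasiSeparatedSpace f).mpr ‹_›
  haveI : QuasiSeparated g := (quasiSeparated_iff_quasiSeparatedSpace g).mpr ‹_›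
  haveI : CompactSpace (pullback f g : Scheme.{u}) :=
    QuasiCompact.compactSpace_of_compactSpace (pullback.fst f g)
  haveI : QuasiSeparatedSpace (pullback f g : Scheme.{u}) := quasiSeparatedSpace_of_quasiSeparated (pullback.fst f g)
  let p := pullback.fst f g
  let q := pullback.snd f g
  have hloc : ∀ z : (pullback f g : Scheme.{u}), ∃ (U : X.Opens) (V : Y.Opens), IsAffineOpen U ∧ IsAffineOpen V ∧
      z ∈ p ⁻¹ᵁ U ⊓ q ⁻¹ᵁ V ∧ IsAffineOpen (p ⁻¹ᵁ U ⊓ q ⁻¹ᵁ V) := fun z => by
    obtain ⟨U, hU, hxU, -⟩ := exists_isAffineOpen_mem_and_subset (U := (⊤ : X.Opens)) (x := p z) trivial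
    obtain ⟨V, hV, hyV, -⟩ := exists_isAffineOpen_mem_and_subset (U := (⊤ : Y.Opens)) (x := q z) trivial
    exact ⟨U, V, hU, hV, ⟨hxU, hyV⟩, AlgzCohLib.isAffineOpen_pullback_inf hU hV (isAffineOpen_top S)
      (fun _ _ => trivial) (fun _ _ => trivial)⟩
  choose U V hU hV hz hT using hloc
  let T := fun z => p ⁻¹ᵁ U z ⊓ q ⁻¹ᵁ V z
  obtain ⟨S₀, hS₀⟩ := isCompact_univ.elim_finite_subcover (fun z => (T z : Set (pullback f g : Scheme.{u})))
    (fun z => (T z).2) fun z _ => Set.mem_iUnion.mpr ⟨z, hz z⟩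
  choose R hR using fun z => (QCohLib.finite_of_isFT hF (hT z)).fg_top
  let I := Σ z : S₀, R z.1
  choose Q P β hQ hP hβ using fun a : I =>
    exists_box_kill p q hX hY F (hU a.1.1) (hV a.1.1) (a.2.1 : Γ(F, T a.1.1))
  obtain ⟨E, G, π, hE, hG, hfac⟩ : ∃ (E : X.Modules) (G : Y.Modules) (π : box p q E G ⟶ F),
      FlatMod.IsFinLocFree E ∧ FlatMod.IsFinLocFree G ∧
        ∀ {M : (pullback f g).Modules} (r : F ⟶ M), π ≫ r = 0 → ∀ a : I, β a ≫ r = 0 := by
    suffices h : ∀ s : Finset I, ∃ (E : X.Modules) (G : Y.Modules) (π : box p q E G ⟶ F),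
        FlatMod.IsFinLocFree E ∧ FlatMod.IsFinLocFree G ∧
          ∀ {M : (pullback f g).Modules} (r : F ⟶ M), π ≫ r = 0 → ∀ a ∈ s, β a ≫ r = 0 by
      obtain ⟨E, G, π, hE, hG, h⟩ := h Finset.univ
      exact ⟨E, G, π, hE, hG, fun r hr a => h r hr a (Finset.mem_univ a)⟩
    intro s
    induction s using Finset.induction with
    | empty =>
      exact ⟨Coh.structureModule X, Coh.structureModule Y, 0,
        AmpleDevLib.isFinLocFree_of_isInvertible CurvLib.isInvertible_structureModule,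
        AmpleDevLib.isFinLocFree_of_isInvertible CurvLib.isInvertible_structureModule,
        fun _ _ a ha => by simp at ha⟩
    | @insert a s ha ih =>
      obtain ⟨E, G, π, hE, hG, h⟩ := ih
      refine ⟨Q a ⊞ E, P a ⊞ G,
        boxMap p q biprod.fst biprod.fst ≫ β a + boxMap p q biprod.snd biprod.snd ≫ π,
        Groth.Agent.PerfLib.isFinLocFree_biprod (hQ a) hE, Groth.Agent.PerfLib.isFinLocFree_biprod (hP a) hG,
        fun r hr c hc => ?_⟩
      rcases Finset.mem_insert.mp hc with rfl | hc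
      · have := congrArg (boxMap p q biprod.inl biprod.inl ≫ ·) hr
        simp only [Preadditive.add_comp, Preadditive.comp_add, comp_zero, Category.assoc] at this
        rw [← Category.assoc, boxMap_id_comp p q biprod.inl_fst biprod.inl_fst, Category.id_comp,
          ← Category.assoc (boxMap p q biprod.inl biprod.inl), boxMap_zero_comp p q biprod.inl_snd, zero_comp,
          add_zero] at this
        exact this
      · have := congrArg (boxMap p q biprod.inr biprod.inr ≫ ·) hr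
        simp only [Preadditive.add_comp, Preadditive.comp_add, comp_zero, Category.assoc] at this
        rw [← Category.assoc, boxMap_zero_comp p q biprod.inr_fst, zero_comp, zero_add,
          ← Category.assoc, boxMap_id_comp p q biprod.inr_snd biprod.inr_snd, Category.id_comp] at this
        exact h r this c hc
  refine ⟨E, G, hE, hG, π, Preadditive.epi_of_cancel_zero _ fun {M} (r : F ⟶ M) hr => ?_⟩
  have hV' : ∀ (z : S₀) (w : Γ(F, T z.1)), r.app _ w = 0 := by
    intro z w
    have hw : w ∈ Submodule.span Γ(pullback f g, T z.1) (R z.1 : Set Γ(F, T z.1)) := by rw [hR z.1]; trivial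
    induction hw using Submodule.span_induction with
    | mem a ha => exact hβ ⟨z, a, ha⟩ r (hfac r hr _)
    | zero => exact map_zero _
    | add a c _ _ h1 h2 => rw [map_add, h1, h2, add_zero]
    | smul c a _ h1 => rw [QCohLib.app_smul, h1, smul_zero]
  apply Scheme.Modules.hom_ext
  intro W
  refine ConcreteCategory.hom_ext _ _ fun w => TwistLib.mod_ext M fun y hy => ?_
  obtain ⟨z, hz', hyz⟩ := Set.mem_iUnion₂.mp (hS₀ (Set.mem_univ y))
  obtain ⟨b, hbW, hyb⟩ := (hT z).exists_basicOpen_le (V := W) ⟨y, hy⟩ hyz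
  obtain ⟨n, j, hj⟩ := (QCohLib.localizingAt_of_qcqs F (hT z).isCompact (hT z).isQuasiSeparated b).exists_extend
    (res F hbW w)
  have h3 := congrArg (r.app ((pullback f g).basicOpen b)) hj
  rw [QCohLib.app_map, hV' ⟨z, hz'⟩, map_zero, QCohLib.app_smul] at h3
  have hu : IsUnit ((pullback f g).presheaf.map (homOfLE ((pullback f g).basicOpen_le b)).op b) :=
    RingedSpace.isUnit_res_basicOpen _ b
  have h4 : r.app ((pullback f g).basicOpen b) (res F hbW w) = 0 := (hu.pow n).smul_eq_zero.mp h3.symm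
  change M.presheaf.germ W y hy (r.app W w) = M.presheaf.germ W y hy 0
  rw [map_zero, ← AmpleLib.germ_res M hbW (r.app W w) (x := y) hyb, MiscFlat6.app_res, h4, map_zero]

end BoxSurjLib
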