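import Groth.Agent.BoxSurjLib.Main
import Groth.Agent.VBResLib.Res
import Groth.Agent.VBResLib.KFunct
import Groth.Agent.QCohLib.Coherent
import Groth.Agent.DevissLib.ClosedImm

/-!
# Resolutions by exterior products of locally free modules
-/

set_option autoImplicit false
set_option maxRecDepth 8000
set_option backward.isDefEq.respectTransparency false
set_option backward.isDefEq.respectTransparency.types false

noncomputable section

universe u

open CategoryTheory CategoryTheory.Limits AlgebraicGeometry

namespace BoxSurjLib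

variable {X Y Z : Scheme.{u}} (p : Z ⟶ X) (q : Z ⟶ Y)

theorem isFinLocFree_box [IsLocallyNoetherian Z] {E : X.Modules} {G : Y.Modules} (hE : FlatMod.IsFinLocFree E)
    (hG : FlatMod.IsFinLocFree G) : FlatMod.IsFinLocFree (box p q E G) :=
  VBResLib.vb_tensor _ (KFlatLib.isFinLocFree_pull p hE) (KFlatLib.isFinLocFree_pull q hG)

/-- A coherent module has a resolution by exterior products, when these cover all coherent modules. -/
theorem exists_box_resolution [IsLocallyNoetherian Z]
    (h : ∀ F : Z.Modules, Coh.IsCoh F → ∃ (E : X.Modules) (G : Y.Modules), FlatMod.IsFinLocFree E ∧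
      FlatMod.IsFinLocFree G ∧ ∃ π : box p q E G ⟶ F, Epi π)
    (M : Z.Modules) (hM : Coh.IsCoh M) :
    ∃ (C : ChainComplex Z.Modules ℕ) (π : C ⟶ (ChainComplex.single₀ _).obj M), QuasiIso π ∧
      ∀ n : ℕ, ∃ (E : X.Modules) (G : Y.Modules), FlatMod.IsFinLocFree E ∧ FlatMod.IsFinLocFree G ∧
        Nonempty (C.X n ≅ box p q E G) := by
  classical
  choose E G hE hG π hπ using fun N : {N : Z.Modules // Coh.IsCoh N} => h N.1 N.2
  have hK : ∀ N : {N : Z.Modules // Coh.IsCoh N}, Coh.IsCoh (kernel (π N)) := fun N =>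
    QCohLib.isCoh_kernel _ (VBResLib.isCoh_of_vb (isFinLocFree_box p q (hE N) (hG N))) N.2.1
  let S : ℕ → {N : Z.Modules // Coh.IsCoh N} := fun n => Nat.rec ⟨M, hM⟩ (fun _ N => ⟨_, hK N⟩) n
  obtain ⟨C, aug, hC, haug⟩ := VBResLib.exists_resolution (A := M) (fun n => (S n).1) rfl
    (fun n => box p q (E (S n)) (G (S n))) (fun n => kernel.ι (π (S n))) (fun n => π (S n))
    (fun n => kernel.condition _) (fun n => by
      haveI := hπ (S n)
      exact K0ResLib.kerSeq_shortExact (π (S n)))
  exact ⟨C, aug, haug, fun n => ⟨E (S n), G (S n), hE _, hG _, ⟨eqToIso (hC n)⟩⟩⟩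

/-- Resolution of a coherent module on a product over a Noetherian affine scheme. -/
theorem exists_box_resolution_pullback {S : Scheme.{u}} [IsAffine S] [IsLocallyNoetherian S] (f : X ⟶ S)
    (g : Y ⟶ S) [LocallyOfFiniteType f] [LocallyOfFiniteType g] [CompactSpace X] [QuasiSeparatedSpace X]
    [CompactSpace Y] [QuasiSeparatedSpace Y]
    (hX : PerfAux.HasResolutionProperty X) (hY : PerfAux.HasResolutionProperty Y)
    (M : (pullback f g).Modules) (hM : Coh.IsCoh M) :
    ∃ (C : ChainComplex (pullback f g).Modules ℕ) (π : C ⟶ (ChainComplex.single₀ _).obj M), QuasiIso π ∧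
      ∀ n : ℕ, ∃ (E : X.Modules) (G : Y.Modules), FlatMod.IsFinLocFree E ∧ FlatMod.IsFinLocFree G ∧
        Nonempty (C.X n ≅ box (pullback.fst f g) (pullback.snd f g) E G) := by
  haveI : IsLocallyNoetherian (pullback f g) :=
    LocallyOfFiniteType.isLocallyNoetherian (pullback.fst f g ≫ f)
  exact exists_box_resolution _ _ (fun F hF =>
    haveI : Coh.IsQCoh F := hF.1
    exists_box_surjection f g hX hY F hF.2) M hM

end BoxSurjLib
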