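import Groth.Agent.BoxSurjLib.FieldPerf
import Groth.Agent.BoxSurjLib.DiagKernel
import Groth.Agent.BoxSurjLib.Resolution
import Groth.Agent.VBResLib.RegPerfect
import Groth.Agent.PerfFibreLib.Single
import Groth.Agent.PerfDualLib.Unit
import Groth.Agent.QRlimLib.Unbounded
import Groth.Agent.DerBCLib.Main
import Groth.Agent.S0961
import Groth.Agent.S0962
import Groth.Agent.S1002
import Groth.Agent.S1058
import Groth.Agent.BidualSchLib.Exists

/-!
# Smooth proper schemes over a field have strong generators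
-/

set_option autoImplicit false
set_option linter.style.haveILetI false
set_option maxHeartbeats 2000000
set_option backward.isDefEq.respectTransparency false
set_option backward.isDefEq.respectTransparency.types false

universe u

open CategoryTheory CategoryTheory.Limits CategoryTheory.Pretriangulated AlgebraicGeometry ObjectProperty
open Groth.Agent Groth.Agent.DerLib Groth.Agent.PerfDualLib Groth.Agent.ProjFormLib

attribute [local instance] HasDerivedCategory.standard

namespace BoxSurjLib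

variable {Z : Scheme.{u}}

/-- A module as a complex. -/
noncomputable abbrev sgl (A : Z.Modules) : Cx Z := (CochainComplex.singleFunctor Z.Modules 0).obj A

/-- `A[0] ⊗ B[0] ≅ (A ⊗ B)[0]`. -/
noncomputable def sglTensorIso (A B : Z.Modules) :
    ((DCoh.tensorCx (X := Z)).obj (sgl A)).obj (sgl B) ≅ sgl (CohB1.tensorMod A B) :=
  ((Gen.tRSingleIso (DCoh.tensorBi (X := Z)) B).app (sgl A)).symm ≪≫
    (HomologicalComplex.singleMapHomologicalComplex ((DCoh.tensorBi (X := Z)).flip.obj B)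
      (ComplexShape.up ℤ) 0).app A

theorem isKFlat_sgl {A : Z.Modules} (hA : FlatMod.IsFinLocFree A) : DCoh.IsKFlat (sgl A) := by
  refine KFlatLib.isKFlat_of_bounded_flat_mod _ 0
    (fun j hj => HomologicalComplex.isZero_single_obj_X _ _ _ _ (by omega)) fun j => ?_
  refine KFlatLib.isFlat_of_isFinLocFree ?_
  by_cases hj : j = 0
  · subst hj
    exact Groth.Agent.PerfLib.isFinLocFree_of_iso (HomologicalComplex.singleObjXSelf _ _ _).symm hA
  · exact KFlatLib.isFinLocFree_of_isFinFree (KFlatLib.isFinFree_of_isZero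
      (HomologicalComplex.isZero_single_obj_X _ _ _ _ hj))

variable {X : Scheme.{u}}

/-- Tensoring inverse images of complexes. -/
theorem nonempty_box_rearrange (p q : Z ⟶ X) (Kc : Cx X) (E G : X.Modules) :
    Nonempty (((DCoh.tensorCx (X := Z)).obj (sgl (box p q E G))).obj ((KFlatLib.pullCx p).obj Kc) ≅
      ((DCoh.tensorCx (X := Z)).obj ((KFlatLib.pullCx p).obj (((DCoh.tensorCx (X := X)).obj Kc).obj (sgl E)))).obj
        ((KFlatLib.pullCx q).obj (sgl G))) := by
  let T := DCoh.tensorCx (X := Z)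
  let L := (KFlatLib.pullCx p).obj Kc
  let pE := (KFlatLib.pullCx p).obj (sgl E)
  let qG := (KFlatLib.pullCx q).obj (sgl G)
  let eE : pE ≅ sgl ((Scheme.Modules.pullback p).obj E) :=
    (HomologicalComplex.singleMapHomologicalComplex (Scheme.Modules.pullback p) (ComplexShape.up ℤ) 0).app E
  let eG : qG ≅ sgl ((Scheme.Modules.pullback q).obj G) :=
    (HomologicalComplex.singleMapHomologicalComplex (Scheme.Modules.pullback q) (ComplexShape.up ℤ) 0).app G
  let e₁ : (T.obj pE).obj qG ≅ sgl (box p q E G) :=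
    (T.mapIso eE).app qG ≪≫ (T.obj (sgl ((Scheme.Modules.pullback p).obj E))).mapIso eG ≪≫ sglTensorIso _ _
  exact ⟨bX _ L ≪≫ (T.obj L).mapIso e₁.symm ≪≫ ((TensorAssocLib.tRAssoc pE qG).app L).symm ≪≫
    (T.mapIso (KFlatLib.pullTensorCxIso p Kc (sgl E))).app qG⟩

section Main

variable {k : Type u} [Field k] (a : X ⟶ Spec (CommRingCat.of k)) [IsProper a] [Smooth a]

theorem isPerfect_sgl (hreg : ∀ x : X, IsRegularLocalRing (X.presheaf.stalk x)) {A : X.Modules}
    (hA : FlatMod.IsFinLocFree A) [IsLocallyNoetherian X] :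
    DCoh.IsPerfect (DerivedCategory.Q.obj (sgl A)) :=
  PerfLib.isPerfect_of_iso ((DerivedCategory.singleFunctorIsoCompQ X.Modules 0).app A)
    (VBResLib.isPerfect_inD_of_regular hreg (VBResLib.isCoh_of_vb hA))

/-- The derived tensor product of an exterior product with an inverse image. -/
theorem nonempty_lTensor_box (p q : Z ⟶ X) (E G : X.Modules) (hG : FlatMod.IsFinLocFree G) (Kc : Cx X)
    (hKc : DCoh.IsKFlat Kc) [DCoh.HasLTensorCx ((KFlatLib.pullCx p).obj Kc)]
    [DCoh.HasLTensorCx ((KFlatLib.pullCx q).obj (sgl G))] :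
    Nonempty ((DCoh.LTensorCx ((KFlatLib.pullCx p).obj Kc)).obj (DCoh.inD Z (box p q E G)) ≅
      (DCoh.LTensorCx ((KFlatLib.pullCx q).obj (sgl G))).obj (DerivedCategory.Q.obj
        ((KFlatLib.pullCx p).obj (((DCoh.tensorCx (X := X)).obj Kc).obj (sgl E))))) := by
  obtain ⟨eB⟩ := nonempty_box_rearrange p q Kc E G
  let θL := TensorAssocLib.flatCnt ((KFlatLib.pullCx p).obj Kc) (KFlatLib.isKFlat_pull p hKc)
  let θG := TensorAssocLib.flatCnt ((KFlatLib.pullCx q).obj (sgl G))
    (KFlatLib.isKFlat_pull q (isKFlat_sgl hG))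
  let a₁ := (DCoh.LTensorCx ((KFlatLib.pullCx p).obj Kc)).mapIso
    ((DerivedCategory.singleFunctorIsoCompQ Z.Modules 0).app (box p q E G))
  let a₂ := θL.app (sgl (box p q E G))
  let a₃ := DerivedCategory.Q.mapIso eB
  let a₄ := θG.app ((KFlatLib.pullCx p).obj (((DCoh.tensorCx (X := X)).obj Kc).obj (sgl E)))
  exact ⟨a₁ ≪≫ a₂ ≪≫ a₃ ≪≫ a₄.symm⟩

omit [IsProper a] [Smooth a] in
/-- `O ↦ G` under `La^*(-) ⊗^L G`. -/
theorem nonempty_unit_image (G : X.Modules) (hG : FlatMod.IsFinLocFree G) [DCoh.HasLpull a]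
    [DCoh.HasLTensorCx (sgl G)] :
    Nonempty ((DCoh.LTensorCx (sgl G)).obj ((DCoh.Lpull a).obj
      (DCoh.inD _ (Coh.structureModule (Spec (CommRingCat.of k))))) ≅ DCoh.inD X G) := by
  obtain ⟨eO⟩ := PerfFibreLib.nonempty_lpull_single a (Coh.structureModule (Spec (CommRingCat.of k)))
    (AmpleDevLib.isFinLocFree_of_isInvertible CurvLib.isInvertible_structureModule) 0
  let b₁ := (DCoh.LTensorCx (sgl G)).mapIso (eO ≪≫
    (DerivedCategory.singleFunctor X.Modules 0).mapIso (KFlatLib.pullUnitIso a) ≪≫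
    (DerivedCategory.singleFunctorIsoCompQ X.Modules 0).app (Coh.structureModule X))
  let b₂ := (TensorAssocLib.flatCnt (sgl G) (isKFlat_sgl hG)).app (unitCx X)
  let b₃ := DerivedCategory.Q.mapIso (bX (unitCx X) (sgl G) ≪≫ unitNat.app (sgl G))
  let b₄ := (DerivedCategory.singleFunctorIsoCompQ X.Modules 0).app G
  exact ⟨b₁ ≪≫ b₂ ≪≫ b₃ ≪≫ b₄.symm⟩

omit [IsProper a] [Smooth a] in
/-- Perfect objects on the point go to sums of shifts of `G`. -/
theorem prop_image_point (G : X.Modules) (hG : FlatMod.IsFinLocFree G) [DCoh.HasLpull a]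
    [DCoh.HasLTensorCx (sgl G)] {W : DCoh.D (Spec (CommRingCat.of k))} (hW : DCoh.IsPerfect W) :
    (ObjectProperty.ofObj fun _ : PUnit.{u + 1} => DCoh.inD X G).triangEnvelopeIter 0
      ((DCoh.LTensorCx (sgl G)).obj ((DCoh.Lpull a).obj W)) := by
  haveI := DCohRestrLib.hasRpush a
  obtain ⟨_, _⟩ := QRlimLib.exists_isTriangulated_rpush a
  let adjf := KFlatLib.lpullRpushAdj a
  letI := adjf.leftAdjointCommShift ℤ
  haveI := adjf.commShift_of_rightAdjoint ℤ
  haveI : (DCoh.Lpull a).IsTriangulated := adjf.isTriangulated_leftAdjoint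
  haveI : (DCoh.LTensorCx (sgl G)).IsLeftAdjoint := BidualSchLib.hasRSheafHom (sgl G)
  haveI : PreservesBinaryBiproducts (DCoh.LTensorCx (sgl G)) := preservesBinaryBiproducts_of_preservesBinaryCoproducts _
  haveI : (DCoh.LTensorCx (sgl G)).Additive := Functor.additive_of_preservesBinaryBiproducts _
  let Φ := DCoh.Lpull a ⋙ DCoh.LTensorCx (sgl G)
  have hΦ : WeakExact Φ :=
    (weakExact_of_triangulated (DCoh.Lpull a)).comp _ (weakExact_lTensorCx (sgl G) (isKFlat_sgl hG))
  refine map_triangEnvelopeIter Φ hΦ (hΦ.shift fun W hW => Φ.map_isZero hW) _ _ ?_ 0 W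
    (prop_of_isPerfect_point k hW)
  rintro _ ⟨_⟩
  obtain ⟨e⟩ := nonempty_unit_image a G hG
  exact prop_of_iso _ e.symm (le_triangEnvelopeIter _ 0 _ ⟨PUnit.unit⟩)

/-- Base change along the structure map of a product. -/
theorem nonempty_push_pull (M : Cx X) (hM : DCoh.IsKFlat M) (hq : DCoh.IsQCohD (DerivedCategory.Q.obj M))
    [DCoh.HasLpull a] [DCoh.HasRpush a] [DCoh.HasRpush (pullback.snd a a)] :
    Nonempty ((DCoh.Rpush (pullback.snd a a)).obj
        (DerivedCategory.Q.obj ((KFlatLib.pullCx (pullback.fst a a)).obj M)) ≅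
      (DCoh.Lpull a).obj ((DCoh.Rpush a).obj (DerivedCategory.Q.obj M))) := by
  haveI : Flat a := inferInstance
  haveI := KFlatLib.hasLpull (pullback.fst a a)
  haveI := DCohRestrLib.hasRpush (pullback.fst a a)
  obtain ⟨ebc, hbc⟩ := Groth.Agent.S1058.result a a (KFlatLib.lpullRpushAdj a)
    (KFlatLib.lpullRpushAdj (pullback.fst a a))
  haveI := hbc (DerivedCategory.Q.obj M) hq
  let c₁ := (DCoh.Rpush (pullback.snd a a)).mapIso (KFlatLib.lpullObjIso (pullback.fst a a) M hM)
  let c₂ := asIso (DCoh.baseChangeApp (KFlatLib.lpullRpushAdj a) (KFlatLib.lpullRpushAdj (pullback.fst a a)) ebc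
    (DerivedCategory.Q.obj M))
  exact ⟨c₁.symm ≪≫ c₂.symm⟩

/-- The image of an exterior product under a kernel transformation. -/
theorem prop_push_box (hreg : ∀ x : X, IsRegularLocalRing (X.presheaf.stalk x)) (E G : X.Modules)
    (hE : FlatMod.IsFinLocFree E) (hG : FlatMod.IsFinLocFree G) (Kc : Cx X) (hKc : DCoh.IsKFlat Kc)
    (hKp : DCoh.IsPerfect (DerivedCategory.Q.obj Kc))
    [DCoh.HasLTensorCx ((KFlatLib.pullCx (pullback.fst a a)).obj Kc)] [DCoh.HasRpush (pullback.snd a a)] :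
    (ObjectProperty.ofObj fun _ : PUnit.{u + 1} => DCoh.inD X G).triangEnvelopeIter 0
      ((DCoh.Rpush (pullback.snd a a)).obj ((DCoh.LTensorCx ((KFlatLib.pullCx (pullback.fst a a)).obj Kc)).obj
        (DCoh.inD _ (box (pullback.fst a a) (pullback.snd a a) E G)))) := by
  haveI : IsLocallyNoetherian X := LocallyOfFiniteType.isLocallyNoetherian a
  let p := pullback.fst a a
  let q := pullback.snd a a
  let M := ((DCoh.tensorCx (X := X)).obj Kc).obj (sgl E)
  have hM : DCoh.IsKFlat M := KFlatLib.isKFlat_tensorCx hKc (isKFlat_sgl hE)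
  haveI := KFlatLib.hasLTensorCx (sgl E)
  haveI := KFlatLib.hasLTensorCx (sgl G)
  haveI := KFlatLib.hasLTensorCx ((KFlatLib.pullCx q).obj (sgl G))
  have hMp : DCoh.IsPerfect (DerivedCategory.Q.obj M) :=
    PerfLib.isPerfect_of_iso ((TensorAssocLib.flatCnt (sgl E) (isKFlat_sgl hE)).app Kc)
      (Groth.Agent.S0962.result (sgl E) (isKFlat_sgl hE) (isPerfect_sgl hreg hE) _ hKp)
  haveI := KFlatLib.hasLpull a
  haveI := DCohRestrLib.hasRpush a
  obtain ⟨e₁⟩ := nonempty_lTensor_box p q E G hG Kc hKc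
  obtain ⟨e₂⟩ := Groth.Agent.S0961.result q (sgl G) (isKFlat_sgl hG) (isPerfect_sgl hreg hG)
    (DerivedCategory.Q.obj ((KFlatLib.pullCx p).obj M))
  obtain ⟨e₃⟩ := nonempty_push_pull a M hM (KoszOrthLib.isQCohD_of_isPerfect hMp)
  let d₁ := (DCoh.Rpush q).mapIso e₁
  let d₃ := (DCoh.LTensorCx (sgl G)).mapIso e₃
  exact prop_of_iso _ (d₁ ≪≫ e₂.symm ≪≫ d₃).symm
    (prop_image_point a G hG (Groth.Agent.S1002.result a _ hMp))

/-- **Strong generation.** -/
theorem exists_strong_generator (hreg : ∀ x : X, IsRegularLocalRing (X.presheaf.stalk x)) (E G : X.Modules)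
    (hE : FlatMod.IsFinLocFree E) (hG : FlatMod.IsFinLocFree G)
    (h : ObjectProperty.triangEnvelope
      (ObjectProperty.ofObj (fun _ : PUnit.{u + 1} => DCoh.inD _ (box (pullback.fst a a) (pullback.snd a a) E G)))
      (FMK.diagO a)) :
    ∃ (W : DCoh.D X) (n : ℕ), DCoh.IsPerfect W ∧ ∀ K : DCoh.D X, DCoh.IsPerfect K →
      ObjectProperty.triangEnvelopeIter (ObjectProperty.ofObj (fun _ : PUnit.{u + 1} => W)) n K := by
  haveI : IsLocallyNoetherian X := LocallyOfFiniteType.isLocallyNoetherian a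
  obtain ⟨n, hn⟩ := (prop_triangEnvelope_iff _ _).1 h
  refine ⟨DCoh.inD X G, n, VBResLib.isPerfect_inD_of_regular hreg (VBResLib.isCoh_of_vb hG), fun K hK => ?_⟩
  let p := pullback.fst a a
  let q := pullback.snd a a
  obtain ⟨Kc, hgood, ⟨eK⟩⟩ := KFlatLib.exists_good_rep K
  let L := (KFlatLib.pullCx p).obj Kc
  have hL : DCoh.IsKFlat L := KFlatLib.isKFlat_pull p hgood.1
  let Dc : Cx (pullback a a) := sgl ((Coh.push (pullback.diagonal a)).obj (Coh.structureModule X))
  let eD : DerivedCategory.Q.obj Dc ≅ FMK.diagO a :=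
    ((DerivedCategory.singleFunctorIsoCompQ _ 0).app _).symm
  haveI := KFlatLib.hasLpull p
  haveI := KFlatLib.hasLTensorCx L
  haveI := KFlatLib.hasLTensorCx Dc
  haveI := DCohRestrLib.hasRpush q
  obtain ⟨φ⟩ := nonempty_phi_diag a Dc ⟨eD⟩
  haveI : IsIso ((TensorAssocLib.cnt Dc).app L) := TensorAssocLib.isIso_cnt_of_kFlat Dc L hL
  let eF : (DCoh.Rpush q).obj ((DCoh.LTensorCx L).obj (FMK.diagO a)) ≅ K :=
    (DCoh.Rpush q).mapIso ((DCoh.LTensorCx L).mapIso eD.symm ≪≫ (TensorAssocLib.flatCnt L hL).app Dc ≪≫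
      DerivedCategory.Q.mapIso (bX Dc L) ≪≫ (asIso ((TensorAssocLib.cnt Dc).app L)).symm ≪≫
      (DCoh.LTensorCx Dc).mapIso ((KFlatLib.lpullObjIso p Kc hgood.1).symm ≪≫ (DCoh.Lpull p).mapIso eK)) ≪≫
    φ.app K
  refine prop_of_iso _ eF ?_
  obtain ⟨_, _⟩ := QRlimLib.exists_isTriangulated_rpush q
  haveI : (DCoh.LTensorCx L).IsLeftAdjoint := BidualSchLib.hasRSheafHom L
  haveI : PreservesBinaryBiproducts (DCoh.LTensorCx L) := preservesBinaryBiproducts_of_preservesBinaryCoproducts _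
  haveI : (DCoh.LTensorCx L).Additive := Functor.additive_of_preservesBinaryBiproducts _
  let F := DCoh.LTensorCx L ⋙ DCoh.Rpush q
  have hF : WeakExact F :=
    (weakExact_lTensorCx L hL).comp _ (weakExact_of_triangulated (DCoh.Rpush q))
  refine map_triangEnvelopeIter F hF (hF.shift fun W hW => F.map_isZero hW) _ _ ?_ n _ hn
  rintro _ ⟨_⟩
  exact prop_push_box a hreg E G hE hG Kc hgood.1 (PerfLib.isPerfect_of_iso eK.symm hK)

end Main

end BoxSurjLib
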