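import Groth.Agent.KFlatLib.Generic
import Groth.Agent.KFlatLib.DerivedTensor
import Groth.Agent.TensorAssocLib.Derived
import Mathlib.CategoryTheory.Triangulated.Generators
import Mathlib.Algebra.Homology.DerivedCategory.ShortExact
import Mathlib.Algebra.Homology.HomotopyCategory.DegreewiseSplit

/-!
# Functors sending distinguished triangles to distinguished triangles objectwise
-/

set_option autoImplicit false
set_option linter.style.haveILetI false
set_option backward.isDefEq.respectTransparency false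
set_option backward.isDefEq.respectTransparency.types false

universe u

open CategoryTheory CategoryTheory.Limits CategoryTheory.Pretriangulated AlgebraicGeometry ObjectProperty

attribute [local instance] HasDerivedCategory.standard

namespace BoxSurjLib

variable {C D E : Type*} [Category C] [Category D] [Category E]
  [HasZeroObject C] [Preadditive C] [HasShift C ℤ] [∀ n : ℤ, (shiftFunctor C n).Additive] [Pretriangulated C]
  [HasZeroObject D] [Preadditive D] [HasShift D ℤ] [∀ n : ℤ, (shiftFunctor D n).Additive] [Pretriangulated D]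
  [HasZeroObject E] [Preadditive E] [HasShift E ℤ] [∀ n : ℤ, (shiftFunctor E n).Additive] [Pretriangulated E]

/-- A functor sends the vertices of distinguished triangles to those of distinguished triangles. -/
def WeakExact (F : C ⥤ D) : Prop :=
  ∀ T ∈ distTriang C, ∃ T' ∈ distTriang D,
    Nonempty (T'.obj₁ ≅ F.obj T.obj₁) ∧ Nonempty (T'.obj₂ ≅ F.obj T.obj₂) ∧ Nonempty (T'.obj₃ ≅ F.obj T.obj₃)

theorem weakExact_of_triangulated (F : C ⥤ D) [F.CommShift ℤ] [F.IsTriangulated] : WeakExact F :=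
  fun T hT => ⟨_, F.map_distinguished T hT, ⟨Iso.refl _⟩, ⟨Iso.refl _⟩, ⟨Iso.refl _⟩⟩

theorem WeakExact.comp {F : C ⥤ D} (hF : WeakExact F) (G : D ⥤ E) (hG : WeakExact G) : WeakExact (F ⋙ G) := by
  intro T hT
  obtain ⟨T₁, h₁, ⟨a⟩, ⟨b⟩, ⟨c⟩⟩ := hF T hT
  obtain ⟨T₂, h₂, ⟨a'⟩, ⟨b'⟩, ⟨c'⟩⟩ := hG T₁ h₁
  exact ⟨T₂, h₂, ⟨a' ≪≫ G.mapIso a⟩, ⟨b' ≪≫ G.mapIso b⟩, ⟨c' ≪≫ G.mapIso c⟩⟩

theorem prop_biprod₀ (Q : ObjectProperty D) {A B : D} (hA : Q.triangEnvelopeIter 0 A)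
    (hB : Q.triangEnvelopeIter 0 B) : Q.triangEnvelopeIter 0 (A ⊞ B) := by
  rw [triangEnvelopeIter_zero] at hA hB ⊢
  obtain ⟨A', hA', ⟨ra⟩⟩ := hA
  obtain ⟨B', hB', ⟨rb⟩⟩ := hB
  refine ⟨A' ⊞ B', (Q.shiftClosure ℤ).binaryProductsClosure.prop_of_isLimit_binaryFan
    (BinaryBiproduct.isLimit A' B') hA' hB', ⟨{
      i := biprod.map ra.i rb.i
      r := biprod.map ra.r rb.r
      retract := ?_ }⟩⟩
  apply biprod.hom_ext <;> simp

theorem prop_pair₀ (Q : ObjectProperty D) (G : Discrete WalkingPair ⥤ D)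
    (h : ∀ j, Q.triangEnvelopeIter 0 (G.obj j)) : Q.triangEnvelopeIter 0 (limit G) :=
  prop_of_iso _ (biprod.isoProd _ _ ≪≫ (HasLimit.isoOfNatIso (diagramIsoPair G)).symm)
    (prop_biprod₀ Q (h ⟨WalkingPair.left⟩) (h ⟨WalkingPair.right⟩))

/-- Bounds on generation move along weakly exact functors. -/
theorem map_triangEnvelopeIter (F : C ⥤ D) [F.Additive] (hF : WeakExact F)
    (hsh : ∀ (X : C) (a : ℤ), Nonempty (F.obj (X⟦a⟧) ≅ (F.obj X)⟦a⟧))
    (P : ObjectProperty C) (Q : ObjectProperty D)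
    (h : ∀ X, P X → Q.triangEnvelopeIter 0 (F.obj X)) :
    ∀ (n : ℕ) (X : C), P.triangEnvelopeIter n X → Q.triangEnvelopeIter n (F.obj X) := by
  let R : ObjectProperty C := fun X => Q.triangEnvelopeIter 0 (F.obj X)
  haveI : R.IsClosedUnderIsomorphisms := ⟨fun e hX => prop_of_iso (Q.triangEnvelopeIter 0) (F.mapIso e) hX⟩
  haveI : R.IsClosedUnderLimitsOfShape (Discrete WalkingPair) := by
    refine IsClosedUnderLimitsOfShape.mk' ?_
    rintro _ ⟨G, hG⟩
    show Q.triangEnvelopeIter 0 (F.obj (limit G))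
    haveI : PreservesFiniteProducts F := inferInstance
    exact prop_of_iso _ (preservesLimitIso F G).symm (prop_pair₀ Q _ hG)
  haveI hst : (Q.triangEnvelopeIter 0).IsStableUnderShift ℤ := inferInstance
  have h₀ : (P.shiftClosure ℤ).binaryProductsClosure.retractClosure ≤ R := by
    rintro X ⟨Y, hY, ⟨r⟩⟩
    have hY' : R Y := by
      refine limitsClosure_le (J := fun _ : Unit => Discrete WalkingPair) (Q := R) ?_ Y hY
      rintro Z ⟨W, a, e, hW⟩
      obtain ⟨e'⟩ := hsh W a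
      exact prop_of_iso (Q.triangEnvelopeIter 0) (F.mapIso e ≪≫ e').symm ((Q.triangEnvelopeIter 0).le_shift a _ (h W hW))
    exact prop_of_retract (Q.triangEnvelopeIter 0) (r.map F) hY'
  intro n
  induction n with
  | zero =>
    intro X hX
    rw [triangEnvelopeIter_zero] at hX
    exact h₀ X hX
  | succ n ih =>
    intro X hX
    rw [triangEnvelopeIter_succ] at hX ⊢
    obtain ⟨Y, ⟨Y₁, Y₃, f, g, δ, hT, h₁, h₃⟩, ⟨r⟩⟩ := hX
    obtain ⟨T', hT', ⟨a⟩, ⟨b⟩, ⟨c⟩⟩ := hF _ hT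
    refine prop_of_retract _ (r.map F) (le_retractClosure _ _ ⟨T'.obj₁, T'.obj₃, T'.mor₁ ≫ b.hom,
      b.inv ≫ T'.mor₂, T'.mor₃, ?_, ?_, prop_of_iso _ c.symm (ih _ h₃)⟩)
    · exact isomorphic_distinguished _ hT' _ (Triangle.isoMk _ _ (Iso.refl _) b.symm (Iso.refl _)
        (by simp) (by simp) (by simp))
    · have h1 := prop_of_iso (Q.triangEnvelopeIter 0) a.symm (h₀ _ h₁)
      rw [triangEnvelopeIter_zero] at h1
      exact h1

/-- A weakly exact functor killing zero objects commutes with shifts on objects. -/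
theorem WeakExact.shift {F : C ⥤ D} (hF : WeakExact F) (h0 : ∀ Z, IsZero Z → IsZero (F.obj Z)) :
    ∀ (X : C) (a : ℤ), Nonempty (F.obj (X⟦a⟧) ≅ (F.obj X)⟦a⟧) := by
  have step : ∀ X : C, Nonempty (F.obj (X⟦(1 : ℤ)⟧) ≅ (F.obj X)⟦(1 : ℤ)⟧) := fun X => by
    obtain ⟨T', hT', ⟨a⟩, ⟨b⟩, ⟨c⟩⟩ :=
      hF _ (rot_of_distTriang _ (contractible_distinguished X))
    have hz : IsZero T'.obj₂ := (h0 _ (isZero_zero C)).of_iso b
    haveI : IsIso T'.mor₃ := (Triangle.isZero₂_iff_isIso₃ _ hT').1 hz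
    exact ⟨c.symm ≪≫ asIso T'.mor₃ ≪≫ (shiftFunctor D (1 : ℤ)).mapIso a⟩
  intro X a
  induction a using Int.induction_on generalizing X with
  | zero => exact ⟨F.mapIso ((shiftFunctorZero C ℤ).app X) ≪≫ ((shiftFunctorZero D ℤ).app _).symm⟩
  | succ n ih =>
    obtain ⟨e⟩ := ih X
    obtain ⟨e'⟩ := step (X⟦(n : ℤ)⟧)
    exact ⟨F.mapIso ((shiftFunctorAdd' C (n : ℤ) 1 ((n : ℤ) + 1) rfl).app X) ≪≫ e' ≪≫
      (shiftFunctor D (1 : ℤ)).mapIso e ≪≫ ((shiftFunctorAdd' D (n : ℤ) 1 ((n : ℤ) + 1) rfl).app _).symm⟩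
  | pred n ih =>
    obtain ⟨e⟩ := ih X
    obtain ⟨e'⟩ := step (X⟦-(n : ℤ) - 1⟧)
    have h' : (-(n : ℤ) - 1) + 1 = -(n : ℤ) := by omega
    refine ⟨(shiftFunctor D (1 : ℤ)).preimageIso (e'.symm ≪≫
      F.mapIso ((shiftFunctorAdd' C (-(n : ℤ) - 1) 1 (-(n : ℤ)) h').app X).symm ≪≫ e ≪≫
      (shiftFunctorAdd' D (-(n : ℤ) - 1) 1 (-(n : ℤ)) h').app _)⟩

section LTensor

open Groth.Agent

variable {X : Scheme.{u}} (L : CochainComplex X.Modules ℤ)

set_option maxHeartbeats 1000000 in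
/-- Derived tensor product with a K-flat complex is weakly exact. -/
theorem weakExact_lTensorCx [DCoh.HasLTensorCx L] (hL : DCoh.IsKFlat L) : WeakExact (DCoh.LTensorCx L) := by
  intro T hT
  have hT' := inv_rot_of_distTriang _ hT
  obtain ⟨A, B, f, ⟨e⟩⟩ := (DerivedCategory.mem_distTriang_iff _).1 hT'
  let θ := TensorAssocLib.flatCnt L hL
  let S := CochainComplex.mappingCone.triangleRotateShortComplex f
  have hS : (S.map (KFlatLib.bimap₁ (DCoh.tensorBi (X := X)) L)).ShortExact :=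
    KFlatLib.shortExact_of_degSplit (KFlatLib.degSplitBimap₁ (DCoh.tensorBi (X := X)) L
      (CochainComplex.mappingCone.triangleRotateShortComplexSplitting f))
  refine ⟨DerivedCategory.triangleOfSES hS, DerivedCategory.triangleOfSES_distinguished hS, ?_, ?_, ?_⟩
  · exact ⟨(θ.app B).symm ≪≫ (DCoh.LTensorCx L).mapIso (Triangle.π₂.mapIso e).symm⟩
  · exact ⟨(θ.app (CochainComplex.mappingCone f)).symm ≪≫ (DCoh.LTensorCx L).mapIso (Triangle.π₃.mapIso e).symm⟩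
  · let eA : (DerivedCategory.Q (C := X.Modules)).obj A ≅ T.obj₃⟦(-1 : ℤ)⟧ := (Triangle.π₁.mapIso e).symm
    let e₁ : (DerivedCategory.Q (C := X.Modules)).obj (A⟦(1 : ℤ)⟧) ≅ T.obj₃ :=
      ((DerivedCategory.Q (C := X.Modules)).commShiftIso (1 : ℤ)).app A ≪≫
        (shiftFunctor (DCoh.D X) (1 : ℤ)).mapIso eA ≪≫ shiftNegShift T.obj₃ (1 : ℤ)
    let e₂ : (DerivedCategory.Q (C := X.Modules) ⋙ DCoh.LTensorCx L).obj (A⟦(1 : ℤ)⟧) ≅ (DCoh.LTensorCx L).obj T.obj₃ := (DCoh.LTensorCx L).mapIso e₁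
    let e₃ := (θ.app (A⟦(1 : ℤ)⟧)).symm ≪≫ e₂
    exact ⟨e₃⟩

end LTensor

end BoxSurjLib
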